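/-
Double cosets, parabolic subgroups and fixed cosets in twisted groups.
-/
import Cfsg.Agent.Lib.Chev.Twist.BN

namespace CfsgLib.Chev

open Cfsg.Lie Matrix

set_option linter.dupNamespace false
set_option linter.unusedSectionVars false

variable {D : ChevalleyDatum}

namespace Chev

variable {Φ : Chev D}

/-- The roots whose negatives lie outside `J`. -/
def NOut (Φ : Chev D) (J : Set (Fin D.rank)) (r : Fin D.nroots) : Prop := Φ.Out J r.rev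

theorem nOut_iff {J : Set (Fin D.rank)} {r : Fin D.nroots} : Φ.NOut J r ↔ ∃ j, j ∉ J ∧ Φ.V r j < 0 := by
  simp [NOut, Out, Φ.V_neg]

theorem not_pos_of_nOut {J : Set (Fin D.rank)} {r : Fin D.nroots} (h : Φ.NOut J r) : ¬ Φ.toTables.Pos r :=
  (Φ.pos_rev_iff r).mp (Out.pos Φ h)

/-- A root element of `Φ_J` normalises the subgroup of the negative roots outside `J`. -/
theorem xg_mem_normalizer_nOut (Φ : Chev D) {F : Type*} [Field F] {J : Set (Fin D.rank)} {r : Fin D.nroots}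
    (hr : Φ.Sub J r) (t : F) :
    Φ.toAlg.xg r t ∈ Subgroup.normalizer (Φ.US F (Φ.NOut J) : Set (GL D.Idx F)) := by
  have key : ∀ (c : F) (u : GL D.Idx F), u ∈ Φ.US F (Φ.NOut J) →
      Φ.toAlg.xg r c * u * (Φ.toAlg.xg r c)⁻¹ ∈ Φ.US F (Φ.NOut J) := by
    intro c u hu
    refine Φ.conj_mem_of_gen (fun s v hs => ?_) hu
    obtain ⟨j, hj, hsj⟩ := Φ.nOut_iff.mp hs
    have hrj := hr j hj
    have h1 : s ≠ r := fun e => by rw [e, hrj] at hsj; omega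
    have h2 : s ≠ r.rev := fun e => by rw [e, Φ.V_neg r, hrj] at hsj; omega
    have hsp : ¬ Φ.toTables.Pos s := not_pos_of_nOut hs
    have := Φ.conj_xg_mem h1 h2 (S := Φ.NOut J) hs (fun d hd => Φ.commTerms_mem
      (fun hN => Φ.nOut_iff.mpr ⟨j, hj, by rw [Φ.V_add r s hN, hrj]; omega⟩)
      (fun x hx hN => by
        obtain ⟨k, hk, hxk⟩ := Φ.nOut_iff.mp hx
        exact Φ.nOut_iff.mpr ⟨k, hk, by rw [Φ.V_add r x hN, hr k hk]; omega⟩)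
      (fun x hx hN => by
        obtain ⟨k, hk, hxk⟩ := Φ.nOut_iff.mp hx
        refine Φ.nOut_iff.mpr ⟨k, hk, ?_⟩
        rw [Φ.V_add s x hN]; have := Φ.V_nonpos s hsp k; omega) hd) (-c) v
    rwa [← Φ.toAlg.xg_inv, inv_inv] at this
  rw [Subgroup.mem_normalizer_iff]
  refine fun u => ⟨key t u, fun h => ?_⟩
  have := key (-t) _ h
  rw [← Φ.toAlg.xg_inv] at this
  simpa [mul_assoc] using this

namespace Sym

variable (S : Φ.Sym)

/-- The permutations stabilising an orbit. -/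
def Stab (a : Fin S.m) (π : Equiv.Perm (Fin D.nroots)) : Prop := ∀ r, S.PJ a r → S.PJ a (π r)

theorem Stab.inv {S : Φ.Sym} {a : Fin S.m} {π : Equiv.Perm (Fin D.nroots)} (h : S.Stab a π) :
    S.Stab a π⁻¹ := by
  intro r hr
  have hf : Function.Injective (fun x : {r // S.PJ a r} => (⟨π x.1, h x.1 x.2⟩ : {r // S.PJ a r})) :=
    fun x y e => Subtype.ext (π.injective (congrArg Subtype.val e))
  obtain ⟨⟨s, hs⟩, e⟩ := Finite.surjective_of_injective hf ⟨r, hr⟩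
  have e' : π s = r := congrArg Subtype.val e
  rw [← e']
  simpa using hs

theorem w_rev_mem {a : Fin S.m} {r : Fin D.nroots} (hr : S.PJ a r) : S.PJ a (S.w a r).rev :=
  ⟨(Φ.pos_rev_iff _).mpr (S.w_neg a r hr.1 hr.2), by rw [Φ.sub_rev, S.sub_w]; exact hr.2⟩

theorem neg_all_or_pos {π : Equiv.Perm (Fin D.nroots)} (hπ : π ∈ S.W1) (a : Fin S.m) :
    (∀ r, S.PJ a r → Φ.toTables.Pos (π r)) ∨ (∀ r, S.PJ a r → ¬ Φ.toTables.Pos (π r)) := by
  by_cases hc : ∀ i ∈ S.J a, Φ.toTables.Pos (π (Φ.p i))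
  · exact Or.inl fun r hr => Φ.pos_of_comb_supp (S.mem_W1.mp hπ).1 hr.1
      fun k hk => hc k (by_contra fun e => hk (hr.2 k e))
  · push Not at hc
    obtain ⟨i, hi, hn⟩ := hc
    exact Or.inr fun r hr => S.neg_all_of_neg hπ hi hn hr

theorem pos_mul_w {π : Equiv.Perm (Fin D.nroots)} (hπ : π ∈ S.W1) {a : Fin S.m}
    (h : ∀ r, S.PJ a r → ¬ Φ.toTables.Pos (π r)) : ∀ r, S.PJ a r → Φ.toTables.Pos ((π * S.w a) r) := by
  intro r hr
  have h1 := h _ (S.w_rev_mem hr)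
  rw [Φ.W_rev (S.mem_W1.mp hπ).1, Φ.pos_rev_iff, not_not] at h1
  exact h1

theorem Stab.out_of_inv {S : Φ.Sym} {a : Fin S.m} {π : Equiv.Perm (Fin D.nroots)} (hπ : π ∈ S.W1)
    (hst : S.Stab a π) {r : Fin D.nroots} (hr : Φ.Inv π r) :
    Φ.Out (S.J a) r ∧ Φ.NOut (S.J a) (π r) := by
  have h1 : ¬ Φ.Sub (S.J a) r := fun hs => hr.2 (hst r ⟨hr.1, hs⟩).1
  refine ⟨Φ.out_iff_pos_and_not_sub.mpr ⟨hr.1, h1⟩,
    Φ.out_iff_pos_and_not_sub.mpr ⟨(Φ.pos_rev_iff _).mpr hr.2, fun hs => h1 ?_⟩⟩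
  have h2 := hst.inv _ ⟨(Φ.pos_rev_iff _).mpr hr.2, hs⟩
  rw [Φ.W_rev (inv_mem (S.mem_W1.mp hπ).1), Equiv.Perm.inv_def, Equiv.symm_apply_apply] at h2
  exact Φ.sub_rev.mp h2.2

/-- The subgroup generated by the reflections of some orbits. -/
def Wsub (J : Set (Fin S.m)) : Subgroup (Equiv.Perm (Fin D.nroots)) := Subgroup.closure (S.w '' J)

theorem Wsub_le (J : Set (Fin S.m)) : S.Wsub J ≤ S.W1 := by
  rw [Wsub, Subgroup.closure_le]
  rintro _ ⟨a, -, rfl⟩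
  exact S.w_mem_W1 a

end Sym

namespace Tw

variable {S : Φ.Sym} {F : Type*} [Field F] {T : Tw S F} {G1 : Subgroup (GL D.Idx F)}

/-- The fixed part of the Borel subgroup. -/
def Bf (T : Tw S F) : Subgroup (GL D.Idx F) := D.borelSubgroup F ⊓ T.fix

theorem Uinv_le_Bf (T : Tw S F) (π : Equiv.Perm (Fin D.nroots)) : T.Uinv π ≤ Bf T :=
  fun _ hu => ⟨Φ.inv_le_B π hu.1, hu.2⟩

theorem H_mem_Bf {n n' : GL D.Idx F} {π : Equiv.Perm (Fin D.nroots)} (hn : n ∈ D.monomialSubgroup F)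
    (hn' : n' ∈ D.monomialSubgroup F) (hf : n ∈ T.fix) (hf' : n' ∈ T.fix) (hm : Φ.Mono n π)
    (hm' : Φ.Mono n' π) : n⁻¹ * n' ∈ Bf T := by
  refine ⟨Subgroup.mem_sup_right ?_, mul_mem (Subgroup.inv_mem _ hf) hf'⟩
  rw [Φ.mem_H_iff_mono_one (mul_mem (inv_mem hn) hn')]
  have := Mono.mul Φ (mono_inv hn hm) hm'
  rwa [inv_mul_cancel] at this

/-- A double coset of the fixed Borel subgroup. -/
def Cell (T : Tw S F) (n : GL D.Idx F) : Set (GL D.Idx F) :=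
  {g | ∃ b ∈ Bf T, ∃ c ∈ Bf T, g = b * n * c}

theorem self_mem_Cell (n : GL D.Idx F) : n ∈ Cell T n := ⟨1, one_mem _, 1, one_mem _, by simp⟩

theorem inv_mem_Cell {n g : GL D.Idx F} (hg : g ∈ Cell T n) : g⁻¹ ∈ Cell T n⁻¹ := by
  obtain ⟨b, hb, c, hc, rfl⟩ := hg
  exact ⟨c⁻¹, Subgroup.inv_mem _ hc, b⁻¹, Subgroup.inv_mem _ hb, by group⟩

theorem mul_mem_Cell {n g b c : GL D.Idx F} (hb : b ∈ Bf T) (hg : g ∈ Cell T n) (hc : c ∈ Bf T) :
    b * g * c ∈ Cell T n := by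
  obtain ⟨b', hb', c', hc', rfl⟩ := hg
  exact ⟨b * b', mul_mem hb hb', c' * c, mul_mem hc' hc, by group⟩

theorem Cell_change {n n' g : GL D.Idx F} {π : Equiv.Perm (Fin D.nroots)} (hn : n ∈ D.monomialSubgroup F)
    (hn' : n' ∈ D.monomialSubgroup F) (hf : n ∈ T.fix) (hf' : n' ∈ T.fix) (hm : Φ.Mono n π)
    (hm' : Φ.Mono n' π) (hg : g ∈ Cell T n) : g ∈ Cell T n' := by
  obtain ⟨b, hb, c, hc, rfl⟩ := hg
  exact ⟨b, hb, n'⁻¹ * n * c, mul_mem (H_mem_Bf hn' hn hf' hf hm' hm) hc, by group⟩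

theorem Cell_perm {n n' g : GL D.Idx F} {π π' : Equiv.Perm (Fin D.nroots)}
    (hn : n ∈ D.monomialSubgroup F) (hn' : n' ∈ D.monomialSubgroup F) (hm : Φ.Mono n π) (hm' : Φ.Mono n' π')
    (hg : g ∈ Cell T n) (hg' : g ∈ Cell T n') : π = π' := by
  obtain ⟨b, hb, c, hc, rfl⟩ := hg
  obtain ⟨b', hb', c', hc', e⟩ := hg'
  have h := Φ.cls_eq_of_normal_form hn hn' hb.1 hb'.1 hc.1 hc'.1 e
  have h1 := Mono.mul Φ hm ((Φ.mem_H_iff_mono_one (H_le_N h)).mp h)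
  rw [mul_inv_cancel_left, mul_one] at h1
  exact Mono.unique Φ h1 hm'

variable (h : T.Gen G1)

/-- A monomial representative in the fixed group. -/
structure Rep (T : Tw S F) (n : GL D.Idx F) (π : Equiv.Perm (Fin D.nroots)) : Prop where
  N : n ∈ D.monomialSubgroup F
  fx : n ∈ T.fix
  mono : Φ.Mono n π

theorem Rep.mul {n m : GL D.Idx F} {π σ : Equiv.Perm (Fin D.nroots)} (hn : Rep T n π) (hm : Rep T m σ) :
    Rep T (n * m) (π * σ) :=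
  ⟨mul_mem hn.N hm.N, mul_mem hn.fx hm.fx, Mono.mul Φ hn.mono hm.mono⟩

theorem Rep.inv {n : GL D.Idx F} {π : Equiv.Perm (Fin D.nroots)} (hn : Rep T n π) : Rep T n⁻¹ π⁻¹ :=
  ⟨Subgroup.inv_mem _ hn.N, Subgroup.inv_mem _ hn.fx, mono_inv hn.N hn.mono⟩

theorem Rep.one : Rep T (1 : GL D.Idx F) 1 := ⟨one_mem _, one_mem _, Mono.one Φ⟩

theorem Rep.mem_W1 {n : GL D.Idx F} {π : Equiv.Perm (Fin D.nroots)} (hn : Rep T n π) : π ∈ S.W1 :=
  T.perm_mem_W1 hn.N hn.fx hn.mono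

theorem Rep.change {n n' g : GL D.Idx F} {π : Equiv.Perm (Fin D.nroots)} (hn : Rep T n π) (hn' : Rep T n' π)
    (hg : g ∈ Cell T n) : g ∈ Cell T n' := Cell_change hn.N hn'.N hn.fx hn'.fx hn.mono hn'.mono hg

theorem Rep.perm {n n' g : GL D.Idx F} {π π' : Equiv.Perm (Fin D.nroots)} (hn : Rep T n π)
    (hn' : Rep T n' π') (hg : g ∈ Cell T n) (hg' : g ∈ Cell T n') : π = π' :=
  Cell_perm hn.N hn'.N hn.mono hn'.mono hg hg'

theorem Gen.rep_sn (a : Fin S.m) : Rep T (h.sn a : GL D.Idx F) (S.w a) :=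
  ⟨h.sn_N a, h.le_fix (h.sn a).2, h.sn_mono a⟩

include h in
theorem Gen.exists_rep {π : Equiv.Perm (Fin D.nroots)} (hπ : π ∈ S.W1) : ∃ n, Rep T n π := by
  obtain ⟨n, h1, h2, h3⟩ := h.exists_nW1 hπ
  exact ⟨n, h2, h.le_fix h1, h3⟩

include h in
theorem Gen.exists_cell {g : GL D.Idx F} (hg : g ∈ T.fix) : ∃ n π, Rep T n π ∧ g ∈ Cell T n := by
  obtain ⟨π, hπ, hb⟩ := h.bruhat hg
  obtain ⟨n, h1, h2, h3⟩ := h.exists_nW1 hπ
  obtain ⟨b, hb1, u, hu, e⟩ := hb n h1 h2 h3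
  exact ⟨n, π, ⟨h2, h.le_fix h1, h3⟩, b, hb1, u, Uinv_le_Bf T π hu, e⟩

include h in
theorem Gen.cell_nf {g n : GL D.Idx F} {π : Equiv.Perm (Fin D.nroots)} (hn : Rep T n π) (hg : g ∈ Cell T n) :
    ∃ b ∈ Bf T, ∃ u ∈ T.Uinv π, g = b * n * u := by
  have hgf : g ∈ T.fix := by
    obtain ⟨b, hb, c, hc, rfl⟩ := hg
    exact mul_mem (mul_mem hb.2 hn.fx) hc.2
  obtain ⟨π', hπ', hb⟩ := h.bruhat hgf
  obtain ⟨m, h1, h2, h3⟩ := h.exists_nW1 hπ'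
  obtain ⟨b, hb1, u, hu, e⟩ := hb m h1 h2 h3
  obtain rfl : π = π' := hn.perm ⟨h2, h.le_fix h1, h3⟩ hg ⟨b, hb1, u, Uinv_le_Bf T π' hu, e⟩
  have hn1 : n ∈ G1 := by rw [h.eq_fix]; exact hn.fx
  exact hb n hn1 hn.N hn.mono

include h in
theorem Gen.cell_lnf {g n : GL D.Idx F} {π : Equiv.Perm (Fin D.nroots)} (hn : Rep T n π) (hg : g ∈ Cell T n) :
    ∃ u ∈ T.Uinv π⁻¹, ∃ b ∈ Bf T, g = u * n * b := by
  obtain ⟨b, hb, u, hu, e⟩ := h.cell_nf hn.inv (inv_mem_Cell hg)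
  refine ⟨u⁻¹, Subgroup.inv_mem _ hu, b⁻¹, Subgroup.inv_mem _ hb, ?_⟩
  rw [← inv_inv g, e]
  group

theorem Gen.sn_mul_cell (hne : ∀ a, ∃ x ∈ Φ.US F (S.PJ a) ⊓ T.fix, x ≠ 1) (a : Fin S.m) {g n : GL D.Idx F}
    {π : Equiv.Perm (Fin D.nroots)} (hn : Rep T n π) (hg : g ∈ Cell T n) :
    (h.sn a : GL D.Idx F) * g ∈ Cell T ((h.sn a : GL D.Idx F) * n) ∨
      (h.sn a : GL D.Idx F) * g ∈ Cell T n := by
  obtain ⟨b, hb, c, hc, rfl⟩ := hg
  have hn1 : n ∈ G1 := by rw [h.eq_fix]; exact hn.fx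
  have hu := (h.bnPair hne).mul_mem_union (h.sn a) ⟨a, rfl⟩ ⟨n, hn1⟩ (mem_N1.mpr hn.N)
    ⟨b, h.mem_B hb.1 hb.2⟩ (mem_B1.mpr hb.1)
  have hmem : ∀ z : G1, z ∈ (B1 G1 : Set G1) → (z : GL D.Idx F) ∈ Bf T := fun z hz =>
    ⟨mem_B1.mp hz, h.le_fix z.2⟩
  rcases hu with hu | hu <;> obtain ⟨z1, hz1, z2, hz2, e⟩ := DoubleCoset.mem_doubleCoset.mp hu
  · left
    have e' : (h.sn a : GL D.Idx F) * b * n = z1 * ((h.sn a : GL D.Idx F) * n) * z2 := congrArg Subtype.val e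
    exact ⟨z1, hmem _ hz1, z2 * c, mul_mem (hmem _ hz2) hc,
      by rw [← mul_assoc, ← mul_assoc, e', mul_assoc _ (z2 : GL D.Idx F) c]⟩
  · right
    have e' : (h.sn a : GL D.Idx F) * b * n = z1 * n * z2 := congrArg Subtype.val e
    exact ⟨z1, hmem _ hz1, z2 * c, mul_mem (hmem _ hz2) hc,
      by rw [← mul_assoc, ← mul_assoc, e', mul_assoc _ (z2 : GL D.Idx F) c]⟩

/-- A parabolic subgroup. -/
def Gen.Par (J : Set (Fin S.m)) : Subgroup (GL D.Idx F) :=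
  Bf T ⊔ Subgroup.closure ((fun a => (h.sn a : GL D.Idx F)) '' J)

theorem Gen.Bf_le_Par (J : Set (Fin S.m)) : Bf T ≤ h.Par J := le_sup_left

theorem Gen.sn_mem_Par {J : Set (Fin S.m)} {a : Fin S.m} (ha : a ∈ J) : (h.sn a : GL D.Idx F) ∈ h.Par J :=
  Subgroup.mem_sup_right (Subgroup.subset_closure ⟨a, ha, rfl⟩)

theorem Gen.Par_le_fix (J : Set (Fin S.m)) : h.Par J ≤ T.fix := by
  refine sup_le inf_le_right ((Subgroup.closure_le _).mpr ?_)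
  rintro _ ⟨a, -, rfl⟩
  exact h.le_fix (h.sn a).2

theorem Gen.rep_mem_Par {J : Set (Fin S.m)} {n : GL D.Idx F} {π : Equiv.Perm (Fin D.nroots)}
    (hπ : π ∈ S.Wsub J) (hn : Rep T n π) : n ∈ h.Par J := by
  have : ∃ m, Rep T m π ∧ m ∈ h.Par J := by
    clear hn
    induction hπ using Subgroup.closure_induction with
    | mem x hx => obtain ⟨a, ha, rfl⟩ := hx; exact ⟨_, h.rep_sn a, h.sn_mem_Par ha⟩
    | one => exact ⟨1, Rep.one, one_mem _⟩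
    | mul x y _ _ hx hy =>
      obtain ⟨m, hm, hm'⟩ := hx
      obtain ⟨l, hl, hl'⟩ := hy
      exact ⟨m * l, hm.mul hl, mul_mem hm' hl'⟩
    | inv x _ hx => obtain ⟨m, hm, hm'⟩ := hx; exact ⟨m⁻¹, hm.inv, Subgroup.inv_mem _ hm'⟩
  obtain ⟨m, hm, hm'⟩ := this
  rw [show n = m * (m⁻¹ * n) by group]
  exact mul_mem hm' (h.Bf_le_Par J (H_mem_Bf hm.N hn.N hm.fx hn.fx hm.mono hn.mono))

theorem Gen.mem_Par (hne : ∀ a, ∃ x ∈ Φ.US F (S.PJ a) ⊓ T.fix, x ≠ 1) {J : Set (Fin S.m)}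
    {g : GL D.Idx F} :
    g ∈ h.Par J ↔ ∃ π ∈ S.Wsub J, ∃ n, Rep T n π ∧ g ∈ Cell T n := by
  constructor
  · intro hg
    have hsup : h.Par J = Subgroup.closure ((Bf T : Set (GL D.Idx F)) ∪
        ((fun a => (h.sn a : GL D.Idx F)) '' J)) := by
      rw [Subgroup.closure_union, Subgroup.closure_eq, Gen.Par]
    rw [hsup] at hg
    have step : ∀ a ∈ J, ∀ y, (∃ π ∈ S.Wsub J, ∃ n, Rep T n π ∧ y ∈ Cell T n) →
        ∃ π ∈ S.Wsub J, ∃ n, Rep T n π ∧ (h.sn a : GL D.Idx F) * y ∈ Cell T n := by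
      rintro a ha y ⟨π, hπ, n, hn, hy⟩
      rcases h.sn_mul_cell hne a hn hy with h1 | h1
      · exact ⟨S.w a * π, mul_mem (Subgroup.subset_closure ⟨a, ha, rfl⟩) hπ, _, (h.rep_sn a).mul hn, h1⟩
      · exact ⟨π, hπ, n, hn, h1⟩
    induction hg using Subgroup.closure_induction_left with
    | one => exact ⟨1, one_mem _, 1, Rep.one, self_mem_Cell 1⟩
    | mul_left x hx y _ ih =>
      rcases hx with hx | ⟨a, ha, rfl⟩
      · obtain ⟨π, hπ, n, hn, hy⟩ := ih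
        exact ⟨π, hπ, n, hn, by simpa using mul_mem_Cell hx hy (one_mem (Bf T))⟩
      · exact step a ha y ih
    | inv_mul_cancel x hx y _ ih =>
      rcases hx with hx | ⟨a, ha, rfl⟩
      · obtain ⟨π, hπ, n, hn, hy⟩ := ih
        exact ⟨π, hπ, n, hn, by simpa using mul_mem_Cell (Subgroup.inv_mem _ hx) hy (one_mem (Bf T))⟩
      · obtain ⟨π, hπ, n, hn, hy⟩ := step a ha y ih
        refine ⟨π, hπ, n, hn, ?_⟩
        have hsq : ((h.sn a : GL D.Idx F) * h.sn a)⁻¹ ∈ Bf T :=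
          inv_mem ⟨Subgroup.mem_sup_right (h.sn_sq a), mul_mem (h.le_fix (h.sn a).2) (h.le_fix (h.sn a).2)⟩
        have := mul_mem_Cell hsq hy (one_mem (Bf T))
        simpa [mul_assoc] using this
  · rintro ⟨π, hπ, n, hn, b, hb, c, hc, rfl⟩
    exact mul_mem (mul_mem (h.Bf_le_Par J hb) (h.rep_mem_Par hπ hn)) (h.Bf_le_Par J hc)

/-- The order of a parabolic subgroup. -/
theorem Gen.card_Par [Finite F] (hne : ∀ a, ∃ x ∈ Φ.US F (S.PJ a) ⊓ T.fix, x ≠ 1) (J : Set (Fin S.m))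
    [Fintype (S.Wsub J)] :
    Nat.card ↥(h.Par J) = Nat.card ↥(Bf T) * ∑ π : S.Wsub J, Nat.card (T.Uinv π.1) := by
  classical
  choose rep hrep using fun π : S.Wsub J => h.exists_rep (S.Wsub_le J π.2)
  have hbij : Function.Bijective (fun x : Σ π : S.Wsub J, ↥(Bf T) × T.Uinv π.1 =>
      (⟨(x.2.1 : GL D.Idx F) * rep x.1 * x.2.2, mul_mem (mul_mem (h.Bf_le_Par J x.2.1.2)
        (h.rep_mem_Par x.1.2 (hrep x.1))) (h.Bf_le_Par J (Uinv_le_Bf T _ x.2.2.2))⟩ : h.Par J)) := by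
    constructor
    · rintro ⟨π, ⟨b, hb⟩, ⟨u, hu⟩⟩ ⟨π', ⟨b', hb'⟩, ⟨u', hu'⟩⟩ e
      have e' : b * rep π * u = b' * rep π' * u' := congrArg Subtype.val e
      obtain rfl : π = π' := Subtype.ext ((hrep π).perm (hrep π')
        (g := b * rep π * u) ⟨b, hb, u, Uinv_le_Bf T _ hu, rfl⟩ ⟨b', hb', u', Uinv_le_Bf T _ hu', e'⟩)
      obtain ⟨rfl, rfl⟩ := Φ.nf_unique (hrep π).mono hb.1 hb'.1 hu.1 hu'.1 e'
      rfl
    · rintro ⟨g, hg⟩
      obtain ⟨π, hπ, n, hn, hgn⟩ := (h.mem_Par hne).mp hg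
      obtain ⟨b, hb, u, hu, e⟩ := h.cell_nf (hrep ⟨π, hπ⟩) (hn.change (hrep ⟨π, hπ⟩) hgn)
      exact ⟨⟨⟨π, hπ⟩, ⟨b, hb⟩, ⟨u, hu⟩⟩, Subtype.ext e.symm⟩
  rw [← Nat.card_congr (Equiv.ofBijective _ hbij), Nat.card_sigma, Finset.mul_sum]
  exact Finset.sum_congr rfl fun π _ => Nat.card_prod _ _

theorem Wsub_singleton (a : Fin S.m) {π : Equiv.Perm (Fin D.nroots)} (h : π ∈ S.Wsub {a}) :
    π = 1 ∨ π = S.w a := by
  rw [Sym.Wsub, Set.image_singleton] at h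
  induction h using Subgroup.closure_induction with
  | mem x hx => exact Or.inr hx
  | one => exact Or.inl rfl
  | mul x y _ _ hx hy =>
    rcases hx with rfl | rfl <;> rcases hy with rfl | rfl <;> simp [S.w_w]
  | inv x _ hx => rcases hx with rfl | rfl <;> simp [S.w_inv]

/-- The root groups of an orbit and of its negatives. -/
def Lev (T : Tw S F) (a : Fin S.m) : Subgroup (GL D.Idx F) :=
  (Φ.US F (S.PJ a) ⊓ T.fix) ⊔ (Φ.US F (fun r => S.PJ a r.rev) ⊓ T.fix)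

theorem US_PJ_le_B (a : Fin S.m) : Φ.US F (S.PJ a) ≤ D.borelSubgroup F := fun x hx =>
  Subgroup.mem_sup_left (by rw [Φ.posUnipotent_eq_US]; exact Φ.US_mono (fun r hr => hr.1) hx)

theorem Gen.Lev_le_Par (a : Fin S.m) : Lev T a ≤ h.Par {a} := by
  refine sup_le (fun x hx => h.Bf_le_Par _ ⟨US_PJ_le_B a hx.1, hx.2⟩) fun x hx => ?_
  have hs := (h.rep_sn a)
  have h1 : (h.sn a : GL D.Idx F) * x * (h.sn a : GL D.Idx F)⁻¹ ∈ Φ.US F (S.PJ a) :=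
    Φ.map_US_le hs.mono (fun r hr => by
      have := S.w_rev_mem (a := a) (r := r.rev) hr
      rwa [Φ.W_rev (S.w_mem_W a), Fin.rev_rev] at this) x hx.1
  have h2 : (h.sn a : GL D.Idx F) * x * (h.sn a : GL D.Idx F)⁻¹ ∈ h.Par {a} :=
    h.Bf_le_Par _ ⟨US_PJ_le_B a h1, mul_mem (mul_mem hs.fx hx.2) (Subgroup.inv_mem _ hs.fx)⟩
  have := mul_mem (mul_mem (inv_mem (h.sn_mem_Par (J := {a}) rfl)) h2) (h.sn_mem_Par (J := {a}) rfl)
  simpa [mul_assoc] using this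

theorem Lev_le_normalizer (a : Fin S.m) :
    Lev T a ≤ Subgroup.normalizer (Φ.US F (Φ.Out (S.J a)) : Set (GL D.Idx F)) ⊓
      Subgroup.normalizer (Φ.US F (Φ.NOut (S.J a)) : Set (GL D.Idx F)) := by
  refine sup_le ?_ ?_ <;> refine le_trans inf_le_left ((Subgroup.closure_le _).mpr ?_)
  · rintro _ ⟨r, t, hr, rfl⟩
    exact ⟨Φ.xg_mem_normalizer_out hr.2 t, Φ.xg_mem_normalizer_nOut hr.2 t⟩
  · rintro _ ⟨r, t, hr, rfl⟩
    exact ⟨Φ.xg_mem_normalizer_out (Φ.sub_rev.mp hr.2) t, Φ.xg_mem_normalizer_nOut (Φ.sub_rev.mp hr.2) t⟩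

theorem Rep.conj_Lev {n : GL D.Idx F} {π : Equiv.Perm (Fin D.nroots)} (hn : Rep T n π) {a b : Fin S.m}
    (hπ : ∀ r, S.PJ a r → S.PJ b (π r)) {x : GL D.Idx F} (hx : x ∈ Lev T a) :
    n * x * n⁻¹ ∈ Lev T b := by
  have key : Lev T a ≤ (Lev T b).comap (MulAut.conj n).toMonoidHom := by
    refine sup_le ?_ ?_ <;> intro z hz <;> show n * z * n⁻¹ ∈ Lev T b
    · exact Subgroup.mem_sup_left ⟨Φ.map_US_le hn.mono hπ z hz.1, mul_mem (mul_mem hn.fx hz.2) (Subgroup.inv_mem _ hn.fx)⟩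
    · refine Subgroup.mem_sup_right ⟨Φ.map_US_le hn.mono (fun r hr => ?_) z hz.1,
        mul_mem (mul_mem hn.fx hz.2) (Subgroup.inv_mem _ hn.fx)⟩
      show S.PJ b (π r).rev
      rw [← Φ.W_rev (S.mem_W1.mp hn.mem_W1).1]
      exact hπ _ hr
  exact key hx

include h in
/-- The product with an element outside the Borel subgroup moves the cell. -/
theorem Gen.mul_Par_cell (hne : ∀ a, ∃ x ∈ Φ.US F (S.PJ a) ⊓ T.fix, x ≠ 1) {a : Fin S.m} {n p : GL D.Idx F}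
    {π : Equiv.Perm (Fin D.nroots)} (hn : Rep T n π) (hπ : ∀ r, S.PJ a r → Φ.toTables.Pos (π r))
    (hp : p ∈ h.Par {a}) (hpB : p ∉ Bf T) : n * p ∈ Cell T (n * (h.sn a : GL D.Idx F)) := by
  obtain ⟨σ, hσ, m, hm, hpm⟩ := (h.mem_Par hne).mp hp
  rcases Wsub_singleton a hσ with rfl | rfl
  · obtain ⟨b, hb, c, hc, rfl⟩ := hm.change Rep.one hpm
    exact absurd (mul_mem (mul_mem hb (one_mem _)) hc) hpB
  obtain ⟨b, hb, c, hc, rfl⟩ := hm.change (h.rep_sn a) hpm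
  obtain ⟨v, hv, z, hz, rfl⟩ := T.B_mem hb.1 hb.2
  obtain ⟨y, hy, x, hx, e⟩ := h.split_U a (Subgroup.inv_mem _ hv)
  have ev : v = x⁻¹ * y⁻¹ := by rw [← inv_inv v, e, _root_.mul_inv_rev]
  set s := (h.sn a : GL D.Idx F)
  have hs := h.rep_sn a
  have h1 : n * x⁻¹ * n⁻¹ ∈ Bf T := by
    refine ⟨Subgroup.mem_sup_left ?_, mul_mem (mul_mem hn.fx (Subgroup.inv_mem _ hx.2)) (Subgroup.inv_mem _ hn.fx)⟩
    rw [Φ.posUnipotent_eq_US]
    exact Φ.map_US_le hn.mono hπ _ (inv_mem hx.1)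
  have h2 : s⁻¹ * (y⁻¹ * z) * s ∈ Bf T := by
    refine ⟨?_, mul_mem (mul_mem (Subgroup.inv_mem _ hs.fx) (mul_mem (Subgroup.inv_mem _ hy.2) hz.2)) hs.fx⟩
    rw [show s⁻¹ * (y⁻¹ * z) * s = (s⁻¹ * y⁻¹ * s) * (s⁻¹ * z * s) by group]
    refine mul_mem (Subgroup.mem_sup_left ?_) (Subgroup.mem_sup_right ?_)
    · rw [Φ.posUnipotent_eq_US]
      have := Φ.map_US_le hs.inv.mono (T := Φ.toTables.Pos)
        (fun r hr => Out.pos Φ (by rw [S.w_inv]; exact (S.out_w (S.w_mem a) r).mpr hr)) _ (inv_mem hy.1)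
      rwa [inv_inv] at this
    · simpa using (Subgroup.mem_normalizer_iff.mp (Φ.N_le_normalizer_H (inv_mem hs.N)) z).mp hz.1
  refine ⟨_, h1, _, mul_mem h2 hc, ?_⟩
  rw [ev]
  group

include h in
theorem Gen.w_ne_one (a : Fin S.m) : S.w a ≠ 1 := by
  intro e
  have := S.len_w_pos a
  rw [e, Sym.len, Finset.card_pos] at this
  obtain ⟨r, hr⟩ := this
  simp only [Finset.mem_filter, Finset.mem_univ, true_and] at hr
  exact hr.2 hr.1

include h in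
theorem Gen.exists_coset (hne : ∀ a, ∃ x ∈ Φ.US F (S.PJ a) ⊓ T.fix, x ≠ 1) (a : Fin S.m) {g : GL D.Idx F}
    (hg : g ∈ T.fix) :
    ∃ π ∈ S.W1, (∀ r, S.PJ a r → Φ.toTables.Pos (π r)) ∧
      ∀ n, Rep T n π → ∃ u ∈ T.Uinv π⁻¹, ∃ p ∈ h.Par {a}, g = u * n * p := by
  obtain ⟨n, π, hn, hgn⟩ := h.exists_cell hg
  rcases S.neg_all_or_pos hn.mem_W1 a with hpos | hneg
  · refine ⟨π, hn.mem_W1, hpos, fun n' hn' => ?_⟩
    obtain ⟨u, hu, b, hb, e⟩ := h.cell_lnf hn' (hn.change hn' hgn)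
    exact ⟨u, hu, b, h.Bf_le_Par _ hb, e⟩
  · refine ⟨π * S.w a, mul_mem hn.mem_W1 (S.w_mem_W1 a), S.pos_mul_w hn.mem_W1 hneg, fun n' hn' => ?_⟩
    obtain ⟨u, hu, b, hb, e⟩ := h.cell_lnf hn hgn
    have h1 : u * n * (h.sn a : GL D.Idx F) ∈ Cell T (n * (h.sn a : GL D.Idx F)) :=
      ⟨u, Uinv_le_Bf T _ hu, 1, one_mem _, by group⟩
    obtain ⟨u', hu', b', hb', e'⟩ := h.cell_lnf hn' ((hn.mul (h.rep_sn a)).change hn' h1)
    refine ⟨u', hu', b' * (h.sn a : GL D.Idx F)⁻¹ * b, mul_mem (mul_mem (h.Bf_le_Par _ hb')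
      (inv_mem (h.sn_mem_Par (Set.mem_singleton a)))) (h.Bf_le_Par _ hb), ?_⟩
    rw [e, show u * n = u * n * (h.sn a : GL D.Idx F) * (h.sn a : GL D.Idx F)⁻¹ by group, e']
    group

include h in
theorem Gen.mem_Bf_of_conj (hne : ∀ a, ∃ x ∈ Φ.US F (S.PJ a) ⊓ T.fix, x ≠ 1) {a : Fin S.m}
    {n x : GL D.Idx F} {π : Equiv.Perm (Fin D.nroots)} (hn : Rep T n π)
    (h1 : ∀ r, S.PJ a r → Φ.toTables.Pos (π r)) (h2 : ∀ r, S.PJ a r → Φ.toTables.Pos (π⁻¹ r))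
    (hst : ¬ S.Stab a π) (hx : x ∈ h.Par {a}) (hc : n⁻¹ * x * n ∈ h.Par {a}) : x ∈ Bf T := by
  by_contra hxB
  have hs := h.rep_sn a
  have e1 : x * n ∈ Cell T ((h.sn a : GL D.Idx F) * n) := by
    have := inv_mem_Cell (h.mul_Par_cell hne hn.inv h2 (inv_mem hx) fun hc => hxB (inv_mem_iff.mp hc))
    rw [_root_.mul_inv_rev, inv_inv, _root_.mul_inv_rev, inv_inv] at this
    have hr : Rep T ((h.sn a : GL D.Idx F)⁻¹ * n) (S.w a * π) := by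
      have := hs.inv.mul hn
      rwa [S.w_inv] at this
    exact hr.change (hs.mul hn) this
  by_cases hB : n⁻¹ * x * n ∈ Bf T
  · have e2 : x * n ∈ Cell T n := ⟨1, one_mem _, _, hB, by group⟩
    have := (hs.mul hn).perm hn e1 e2
    exact h.w_ne_one a (mul_eq_right.mp this)
  · have e2 := h.mul_Par_cell hne hn h1 hc hB
    rw [show n * (n⁻¹ * x * n) = x * n by group] at e2
    have hcomm := (hs.mul hn).perm (hn.mul hs) e1 e2
    refine hst fun r hr => ?_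
    have e3 : S.w a (π r) = π (S.w a r) := Equiv.ext_iff.mp hcomm r
    have h3 : Φ.Inv (S.w a) (π r) := by
      refine ⟨h1 r hr, fun hp => ?_⟩
      have h4 := h1 _ (S.w_rev_mem hr)
      rw [Φ.W_rev (S.mem_W1.mp hn.mem_W1).1, ← e3, Φ.pos_rev_iff] at h4
      exact h4 hp
    exact (S.inv_w a _).mp h3

include h in
theorem Gen.exists_conj_mem_Bf (hne : ∀ a, ∃ x ∈ Φ.US F (S.PJ a) ⊓ T.fix, x ≠ 1) {a : Fin S.m}
    {u n p x g : GL D.Idx F} {π : Equiv.Perm (Fin D.nroots)} (hn : Rep T n π)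
    (h1 : ∀ r, S.PJ a r → Φ.toTables.Pos (π r)) (hst : ¬ S.Stab a π) (hu : u ∈ Bf T) (hp : p ∈ h.Par {a})
    (e : g = u * n * p) (hx : x ∈ h.Par {a}) (hgx : g⁻¹ * x * g ∈ h.Par {a}) :
    ∃ q ∈ h.Par {a}, q⁻¹ * x * q ∈ Bf T := by
  have huP := h.Bf_le_Par {a} hu
  have hc : n⁻¹ * (u⁻¹ * x * u) * n ∈ h.Par {a} := by
    have := mul_mem (mul_mem hp hgx) (inv_mem hp)
    rw [e] at this
    convert this using 1
    group
  rcases S.neg_all_or_pos (inv_mem hn.mem_W1) a with hpos | hneg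
  · exact ⟨u, huP, h.mem_Bf_of_conj hne hn h1 hpos hst (mul_mem (mul_mem (Subgroup.inv_mem _ huP) hx) huP) hc⟩
  set s := (h.sn a : GL D.Idx F) with hsdef
  have hs := h.rep_sn a
  have hW := S.mem_W1.mp hn.mem_W1
  have hn' : Rep T (s * n) (S.w a * π) := hs.mul hn
  have h2' : ∀ r, S.PJ a r → Φ.toTables.Pos ((S.w a * π)⁻¹ r) := by
    rw [_root_.mul_inv_rev, S.w_inv]
    exact S.pos_mul_w (inv_mem hn.mem_W1) hneg
  rcases S.neg_all_or_pos hn'.mem_W1 a with hpos' | hneg'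
  · by_cases hst' : S.Stab a (S.w a * π)
    · obtain ⟨i, hi⟩ := S.nonempty a
      have h3 := hst' _ (S.p_mem_PJ hi)
      have h4 := S.w_neg a _ h3.1 h3.2
      rw [Equiv.Perm.mul_apply, S.w_w_apply] at h4
      exact absurd (h1 _ (S.p_mem_PJ hi)) h4
    have hq : u * s⁻¹ ∈ h.Par {a} := mul_mem huP (inv_mem (h.sn_mem_Par (Set.mem_singleton a)))
    refine ⟨u * s⁻¹, hq, h.mem_Bf_of_conj hne hn' hpos' h2' hst' (mul_mem (mul_mem (Subgroup.inv_mem _ hq) hx) hq) ?_⟩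
    convert hc using 1
    group
  · exact absurd (fun r hr => (S.inv_w a _).mp ⟨h1 r hr, hneg' r hr⟩) hst

include h in
theorem Gen.commute_of_stab (hne : ∀ a, ∃ x ∈ Φ.US F (S.PJ a) ⊓ T.fix, x ≠ 1) {a : Fin S.m}
    {u n p x g : GL D.Idx F} {π : Equiv.Perm (Fin D.nroots)} (hn : Rep T n π)
    (hst : S.Stab a π) (hu : u ∈ T.Uinv π⁻¹) (hp : p ∈ h.Par {a})
    (e : g = u * n * p) (hx : x ∈ Lev T a) (hgx : g⁻¹ * x * g ∈ h.Par {a}) : x * u = u * x := by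
  have hxP := h.Lev_le_Par a hx
  have hx' : n⁻¹ * x * n ∈ Lev T a := by
    have := hn.inv.conj_Lev (b := a) hst.inv hx
    rwa [inv_inv] at this
  set x' := n⁻¹ * x * n with hx'def
  have hc : n⁻¹ * (u⁻¹ * x * u) * n ∈ h.Par {a} := by
    have := mul_mem (mul_mem hp hgx) (inv_mem hp)
    rw [e] at this
    convert this using 1
    group
  have hW := hn.mem_W1
  have hout : u ∈ Φ.US F (Φ.Out (S.J a)) :=
    Φ.US_mono (F := F) (fun r hr => (hst.inv.out_of_inv (inv_mem hW) hr).1) hu.1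
  have hu0 : n⁻¹ * u * n ∈ Φ.US F (Φ.NOut (S.J a)) := by
    have := Φ.map_US_le hn.inv.mono (T := Φ.NOut (S.J a))
      (fun r hr => (hst.inv.out_of_inv (inv_mem hW) hr).2) u hu.1
    rwa [inv_inv] at this
  set u0 := n⁻¹ * u * n with hu0def
  have hu1 : x' * u0 * x'⁻¹ ∈ Φ.US F (Φ.NOut (S.J a)) :=
    (Subgroup.mem_normalizer_iff.mp (Lev_le_normalizer a hx').2 _).mp hu0
  set y := u0⁻¹ * (x' * u0 * x'⁻¹) with hydef
  have hyV : y ∈ D.negUnipotent F := by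
    rw [Φ.negUnipotent_eq_US]
    exact Φ.US_mono (F := F) (fun r hr => not_pos_of_nOut hr) (mul_mem (inv_mem hu0) hu1)
  have hyP : y ∈ h.Par {a} := by
    have := mul_mem hc (inv_mem (h.Lev_le_Par a hx'))
    convert this using 1
    rw [hydef, hu0def, hx'def]
    group
  have hv : x * u * x⁻¹ ∈ Φ.US F (Φ.Out (S.J a)) :=
    (Subgroup.mem_normalizer_iff.mp (Lev_le_normalizer a hx).1 _).mp hout
  have hny : n * y = u⁻¹ * (x * u * x⁻¹) * n := by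
    rw [hydef, hu0def, hx'def]; group
  have hyB : y ∈ Bf T := by
    by_contra hyB
    have e1 := h.mul_Par_cell hne hn (fun r hr => (hst r hr).1) hyP hyB
    have hBv : u⁻¹ * (x * u * x⁻¹) ∈ Bf T := by
      have hxf := h.Par_le_fix _ hxP
      refine ⟨Subgroup.mem_sup_left ?_, mul_mem (Subgroup.inv_mem _ hu.2) (mul_mem (mul_mem hxf hu.2) (Subgroup.inv_mem _ hxf))⟩
      rw [Φ.posUnipotent_eq_US]
      exact Φ.US_mono (F := F) (fun r hr => Out.pos Φ hr) (mul_mem (inv_mem hout) hv)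
    rw [hny] at e1
    have h3 := (hn.mul (h.rep_sn a)).perm hn e1 ⟨_, hBv, 1, one_mem _, (mul_one _).symm⟩
    exact h.w_ne_one a (mul_eq_left.mp h3)
  have h1 : y = 1 := by
    have : y ∈ D.borelSubgroup F ⊓ D.negUnipotent F := ⟨hyB.1, hyV⟩
    rwa [Φ.B_inf_V, Subgroup.mem_bot] at this
  rw [h1, mul_one] at hny
  have h2 : u⁻¹ * (x * u * x⁻¹) = 1 := mul_eq_right.mp hny.symm
  rw [inv_mul_eq_one] at h2
  nth_rewrite 2 [h2]
  group

include h in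
/-- The elements conjugating `x` into a minimal parabolic subgroup. -/
theorem Gen.card_conj_le [Finite F] (hne : ∀ a, ∃ x ∈ Φ.US F (S.PJ a) ⊓ T.fix, x ≠ 1) {a : Fin S.m}
    {x : GL D.Idx F} (hx : x ∈ Lev T a) (hxB : ∀ q ∈ h.Par {a}, q⁻¹ * x * q ∉ Bf T)
    [Fintype {π : S.W1 // S.Stab a π.1}] :
    Nat.card {g : GL D.Idx F // g ∈ T.fix ∧ g⁻¹ * x * g ∈ h.Par {a}} ≤
      (∑ π : {π : S.W1 // S.Stab a π.1}, Nat.card {u : GL D.Idx F // u ∈ T.Uinv π.1.1 ∧ x * u = u * x}) *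
        Nat.card ↥(h.Par {a}) := by
  classical
  choose rep hrep using fun π : {π : S.W1 // S.Stab a π.1} => h.exists_rep (inv_mem π.1.2)
  let f : {g : GL D.Idx F // g ∈ T.fix ∧ g⁻¹ * x * g ∈ h.Par {a}} →
      (Σ π : {π : S.W1 // S.Stab a π.1}, {u : GL D.Idx F // u ∈ T.Uinv π.1.1 ∧ x * u = u * x}) × ↥(h.Par {a}) :=
    fun g => Classical.choose (show ∃ z : (Σ π : {π : S.W1 // S.Stab a π.1},
      {u : GL D.Idx F // u ∈ T.Uinv π.1.1 ∧ x * u = u * x}) × ↥(h.Par {a}),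
        (g : GL D.Idx F) = (z.1.2 : GL D.Idx F) * rep z.1.1 * z.2 from by
      obtain ⟨π, hπ, hpos, hall⟩ := h.exists_coset hne a g.2.1
      obtain ⟨n, hn⟩ := h.exists_rep hπ
      by_cases hst : S.Stab a π
      · have hst' : S.Stab a (⟨π⁻¹, Subgroup.inv_mem _ hπ⟩ : S.W1).1 := hst.inv
        set P0 : {π : S.W1 // S.Stab a π.1} := ⟨⟨π⁻¹, Subgroup.inv_mem _ hπ⟩, hst'⟩
        have hr : Rep T (rep P0) π := by
          have := hrep P0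
          simpa [P0] using this
        obtain ⟨u, hu, p, hp, e⟩ := hall _ hr
        exact ⟨⟨⟨P0, u, hu, h.commute_of_stab hne hr hst hu hp e hx g.2.2⟩, ⟨p, hp⟩⟩, e⟩
      · obtain ⟨u, hu, p, hp, e⟩ := hall n hn
        obtain ⟨q, hq, hq'⟩ := h.exists_conj_mem_Bf hne hn hpos hst (Uinv_le_Bf T _ hu) hp e
          (h.Lev_le_Par a hx) g.2.2
        exact absurd hq' (hxB q hq))
  have hf : Function.Injective f := by
    intro g g' e
    have h1 : (g : GL D.Idx F) = ((f g).1.2 : GL D.Idx F) * rep (f g).1.1 * (f g).2 :=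
      Classical.choose_spec (p := fun z : (Σ π : {π : S.W1 // S.Stab a π.1},
        {u : GL D.Idx F // u ∈ T.Uinv π.1.1 ∧ x * u = u * x}) × ↥(h.Par {a}) =>
        (g : GL D.Idx F) = (z.1.2 : GL D.Idx F) * rep z.1.1 * z.2) _
    have h2 : (g' : GL D.Idx F) = ((f g').1.2 : GL D.Idx F) * rep (f g').1.1 * (f g').2 :=
      Classical.choose_spec (p := fun z : (Σ π : {π : S.W1 // S.Stab a π.1},
        {u : GL D.Idx F // u ∈ T.Uinv π.1.1 ∧ x * u = u * x}) × ↥(h.Par {a}) =>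
        (g' : GL D.Idx F) = (z.1.2 : GL D.Idx F) * rep z.1.1 * z.2) _
    exact Subtype.ext (by rw [h1, h2, e])
  refine (Nat.card_le_card_of_injective f hf).trans ?_
  rw [Nat.card_prod, Nat.card_sigma]

end Tw

end Chev

end CfsgLib.Chev
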