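/-
Facts on the root system of E6 used for the elements of order five of ²E₆(2).
-/
import Cfsg.Agent.Lib.TwE6Five.Data
import Cfsg.Agent.Lib.TwE6Five.Cells

namespace CfsgLib.Chev.T2E6.Five

open Cfsg.Lie Chev

set_option linter.dupNamespace false
set_option linter.unusedSectionVars false
set_option maxRecDepth 100000
set_option maxHeartbeats 1000000

/-- A root. -/
abbrev Rt := Fin Cfsg.Lie.chevE6.nroots

/-- A root orthogonal to the outer orbit. -/
def OrthR (r : Rt) : Prop := CfsgLib.Chev.chevE6.A (ix 0) r = 0 ∧ CfsgLib.Chev.chevE6.A (ix 5) r = 0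

noncomputable instance (r : Rt) : Decidable (OrthR r) := inferInstanceAs (Decidable (_ ∧ _))

theorem orth_rho_val : ∀ r : Rt, OrthR r → morE6.ρ r.val = r.val := by decide +kernel

theorem eps_unit : ∀ r : Rt, morE6.e r.val = 1 ∨ morE6.e r.val = -1 := by decide +kernel

theorem lam_one : ∀ r : Rt, morE6.l r.val = 1 := by decide +kernel

theorem orth_rev : ∀ r : Rt, OrthR r → OrthR r.rev := by decide +kernel

theorem orth_comm : ∀ r : Rt, OrthR r → ∀ i : Fin Cfsg.Lie.chevE6.rank, i = ix 0 ∨ i = ix 5 →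
    CfsgLib.Chev.chevE6.N r (CfsgLib.Chev.chevE6.p i) = 0 ∧
    CfsgLib.Chev.chevE6.N r (CfsgLib.Chev.chevE6.p i).rev = 0 ∧
    CfsgLib.Chev.chevE6.p i ≠ r.rev ∧ (CfsgLib.Chev.chevE6.p i).rev ≠ r.rev := by decide +kernel

theorem five_orth : ∀ r : Rt, CfsgLib.Chev.chevE6.toTables.Pos r → r.val ≠ 56 → r.val ≠ 36 →
    (5 : ℤ) ∣ CfsgLib.Chev.chevE6.A (ix 0) r + 2 * CfsgLib.Chev.chevE6.A (ix 5) r → OrthR r := by
  decide +kernel

theorem p_vals : (CfsgLib.Chev.chevE6.p (ix 0)).val = 56 ∧ (CfsgLib.Chev.chevE6.p (ix 5)).val = 36 ∧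
    (CfsgLib.Chev.chevE6.p (ix 2)).val = 42 ∧ (CfsgLib.Chev.chevE6.p (ix 4)).val = 37 := by decide +kernel

theorem p_val_getD : ∀ i : Fin Cfsg.Lie.chevE6.rank,
    (CfsgLib.Chev.chevE6.p i).val = roots10.getD i.val 0 := by decide +kernel

theorem PJ3_iff (r : Rt) : S.PJ (ox 3) r ↔ r.val = 56 ∨ r.val = 36 := by
  constructor
  · intro hr
    rcases orb3.hPJ r hr with rfl | rfl
    · exact Or.inl p_vals.1
    · exact Or.inr p_vals.2.1
  · rintro (h | h)
    · rw [show r = CfsgLib.Chev.chevE6.p (ix 0) from Fin.ext (h.trans p_vals.1.symm)]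
      exact S.p_mem_PJ orb3.mem.1
    · rw [show r = CfsgLib.Chev.chevE6.p (ix 5) from Fin.ext (h.trans p_vals.2.1.symm)]
      exact S.p_mem_PJ orb3.mem.2

theorem PJ2_iff (r : Rt) : S.PJ (ox 2) r ↔ r.val = 42 ∨ r.val = 37 := by
  constructor
  · intro hr
    rcases orb2.hPJ r hr with rfl | rfl
    · exact Or.inl p_vals.2.2.1
    · exact Or.inr p_vals.2.2.2
  · rintro (h | h)
    · rw [show r = CfsgLib.Chev.chevE6.p (ix 2) from Fin.ext (h.trans p_vals.2.2.1.symm)]
      exact S.p_mem_PJ orb2.mem.1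
    · rw [show r = CfsgLib.Chev.chevE6.p (ix 4) from Fin.ext (h.trans p_vals.2.2.2.symm)]
      exact S.p_mem_PJ orb2.mem.2

theorem rho_val (r : Rt) : (S.ρ r).val = morE6.ρ r.val := rfl

theorem orth_rho {r : Rt} (h : OrthR r) : S.ρ r = r := Fin.ext (orth_rho_val r h)

/-- The permutation of a word. -/
noncomputable def wordPerm (l : List (Fin 4)) : Equiv.Perm Rt := (l.map fun a => S.w a).prod

/-- The evaluation of a word on a root index. -/
def evalW (l : List (Fin 4)) (r : ℕ) : ℕ := l.foldr (fun a x => symE6.wEval a.val x) r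

theorem wordPerm_val (l : List (Fin 4)) (r : Rt) : (wordPerm l r).val = evalW l r.val := by
  induction l with
  | nil => rfl
  | cons a l ih =>
    show (((S.w a :: l.map fun a => S.w a).prod : Equiv.Perm Rt) r).val = symE6.wEval a.val (evalW l r.val)
    rw [List.prod_cons, Equiv.Perm.mul_apply, ← ih]
    exact (symOKE6.wEval_eq (Φ := CfsgLib.Chev.chevE6) a.isLt _).symm

theorem wordPerm_mem_Wsub {J : Set (Fin 4)} (l : List (Fin 4)) (h : ∀ a ∈ l, a ∈ J) :
    wordPerm l ∈ S.Wsub J := by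
  refine Subgroup.list_prod_mem _ fun g hg => ?_
  obtain ⟨a, ha, rfl⟩ := List.mem_map.mp hg
  exact Subgroup.subset_closure ⟨a, h a ha, rfl⟩

theorem wordPerm_mem_W1 (l : List (Fin 4)) : wordPerm l ∈ S.W1 :=
  S.Wsub_le Set.univ (wordPerm_mem_Wsub l fun _ _ => Set.mem_univ _)

theorem swap_vals : evalW wordSwap 56 = 36 ∧ evalW wordSwap 36 = 56 := by decide +kernel

theorem pair_vals : (evalW wordPair 56 = 42 ∨ evalW wordPair 56 = 37) ∧
    (evalW wordPair 36 = 42 ∨ evalW wordPair 36 = 37) := by decide +kernel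

/-- The parabolic orbits. -/
def J012 : Set (Fin 4) := {a | a.val < 3}

/-- A root in the span of the first three orbits. -/
def Sub012 (r : Rt) : Prop := CfsgLib.Chev.chevE6.V r (ix 0) = 0 ∧ CfsgLib.Chev.chevE6.V r (ix 5) = 0

noncomputable instance (r : Rt) : Decidable (Sub012 r) := inferInstanceAs (Decidable (_ ∧ _))

theorem wordOrth_sub : ∀ r : Rt, OrthR r →
    ∀ s : Rt, s.val = evalW wordOrth r.val → Sub012 s := by decide +kernel

theorem wordNeg_pos : ∀ r : Rt, Sub012 r → ¬ CfsgLib.Chev.chevE6.toTables.Pos r →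
    36 ≤ evalW wordNeg r.val := by decide +kernel

theorem wordNeg_mem : ∀ a ∈ wordNeg, a.val < 3 := by decide

/-! ### The centralised Weyl group -/

/-- A field of the table. -/
noncomputable def dig (x k : ℕ) : ℕ := Pack.field x 8 k

/-- The check of the table. -/
noncomputable def w1Check : Bool :=
  allN 1152 fun i => allN 4 fun a => force (Pack.field (w1Nb.get i) 11 a) fun j =>
    Nat.blt j 1152 && allN 10 fun k => Nat.beq (dig (w1Tab.get j) k) (dig (wTab a) (dig (w1Tab.get i) k))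

theorem w1Check_ok : w1Check = true := by decide +kernel

theorem wTab_ok : ∀ a : Fin 4, ∀ r : Rt, dig (wTab a.val) r.val = symE6.wEval a.val r.val := by
  decide +kernel

theorem w1Start : ∀ k : Fin 10, dig (w1Tab.get 0) k.val = roots10.getD k.val 0 := by decide +kernel

theorem roots10_lt : ∀ k : Fin 10, roots10.getD k.val 0 < Cfsg.Lie.chevE6.nroots := by decide +kernel

/-- The ten roots. -/
def rt (k : Fin 10) : Rt := ⟨roots10.getD k.val 0, roots10_lt k⟩

theorem rt_injective : Function.Injective rt := by decide +kernel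

theorem exists_w1_index {π : Equiv.Perm Rt} (hπ : π ∈ S.W1) :
    ∃ i < 1152, ∀ k : Fin 10, (π (rt k)).val = dig (w1Tab.get i) k.val := by
  have hc := w1Check_ok
  simp only [w1Check, allN_iff, force_eq, Bool.and_eq_true, Nat.blt_eq, Nat.beq_eq] at hc
  have step : ∀ a : Fin 4, ∀ x : Equiv.Perm Rt, (∃ i < 1152, ∀ k : Fin 10, (x (rt k)).val = dig (w1Tab.get i) k.val) →
      ∃ i < 1152, ∀ k : Fin 10, ((S.w a * x) (rt k)).val = dig (w1Tab.get i) k.val := by
    rintro a x ⟨i, hi, h⟩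
    obtain ⟨h1, h2⟩ := hc i hi a.val a.isLt
    refine ⟨_, h1, fun k => ?_⟩
    rw [h2 k.val k.isLt, ← h k, wTab_ok a, Equiv.Perm.mul_apply]
    exact (symOKE6.wEval_eq (Φ := CfsgLib.Chev.chevE6) a.isLt _).symm
  rw [S.W1_eq_closure] at hπ
  induction hπ using Subgroup.closure_induction_left with
  | one => exact ⟨0, by norm_num, fun k => (w1Start k).symm⟩
  | mul_left x hx y _ ih => obtain ⟨a, rfl⟩ := hx; exact step a y ih
  | inv_mul_cancel x hx y _ ih => obtain ⟨a, rfl⟩ := hx; rw [S.w_inv]; exact step a y ih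

theorem eq_of_simple_imgs {π σ : Equiv.Perm Rt} (hπ : π ∈ S.W1) (hσ : σ ∈ S.W1)
    (h : ∀ i, π (CfsgLib.Chev.chevE6.p i) = σ (CfsgLib.Chev.chevE6.p i)) : π = σ := by
  have := CfsgLib.Chev.chevE6.W_eq_one_of_fix (mul_mem (inv_mem (S.mem_W1.mp hσ).1) (S.mem_W1.mp hπ).1)
    fun i => by rw [Equiv.Perm.mul_apply, h i, Equiv.Perm.inv_def, Equiv.symm_apply_apply]
  exact (inv_mul_eq_one.mp this).symm

theorem rt_simple (i : Fin Cfsg.Lie.chevE6.rank) :
    rt ⟨i.val, lt_trans i.isLt (by decide)⟩ = CfsgLib.Chev.chevE6.p i := Fin.ext (p_val_getD i).symm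

/-- The indices of the positive orthogonal roots. -/
def orthKs : Finset (Fin 10) := {1, 3, 6, 7, 8, 9}

theorem orthKs_spec : (∀ k ∈ orthKs, OrthR (rt k) ∧ CfsgLib.Chev.chevE6.toTables.Pos (rt k)) ∧
    ∀ r : Rt, OrthR r → CfsgLib.Chev.chevE6.toTables.Pos r → ∃ k ∈ orthKs, rt k = r := by decide +kernel

/-- The weight of an entry. -/
noncomputable def wgt (x : ℕ) : ℕ :=
  if (dig x 0 = 56 ∨ dig x 0 = 36) ∧ (dig x 5 = 56 ∨ dig x 5 = 36) then
    2 ^ (orthKs.filter fun k => dig x k.val < 36).card else 0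

theorem wgt_sum : ∑ i ∈ Finset.range 1152, wgt (w1Tab.get i) = 630 := by decide +kernel

/-- The number of orthogonal roots inverted by a permutation. -/
noncomputable def ninv (π : Equiv.Perm Rt) : ℕ :=
  Nat.card {r : Rt // CfsgLib.Chev.chevE6.Inv π r ∧ OrthR r}

theorem sum_stab_le [Fintype {π : S.W1 // S.Stab (ox 3) π.1}] :
    ∑ π : {π : S.W1 // S.Stab (ox 3) π.1}, 2 ^ ninv π.1.1 ≤ 630 := by
  classical
  choose idx hidx himg using fun π : {π : S.W1 // S.Stab (ox 3) π.1} => exists_w1_index π.1.2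
  have hinj : Function.Injective idx := fun π σ e => Subtype.ext (Subtype.ext
    (eq_of_simple_imgs π.1.2 σ.1.2 fun i => Fin.ext (by rw [← rt_simple i, himg, himg, e])))
  have hw : ∀ π, 2 ^ ninv π.1.1 = wgt (w1Tab.get (idx π)) := fun π => by
    have h0 : ∀ k : Fin 10, (rt k).val = 56 ∨ (rt k).val = 36 →
        dig (w1Tab.get (idx π)) k.val = 56 ∨ dig (w1Tab.get (idx π)) k.val = 36 := fun k hk => by
      rw [← himg π k]
      exact (PJ3_iff _).mp (π.2 _ ((PJ3_iff _).mpr hk))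
    rw [wgt, if_pos ⟨h0 0 (Or.inl rfl), h0 5 (Or.inr rfl)⟩]
    congr 1
    rw [ninv, Nat.card_eq_fintype_card, Fintype.card_subtype,
      ← Finset.card_image_of_injective (orthKs.filter fun k => dig (w1Tab.get (idx π)) k.val < 36) rt_injective]
    congr 1
    ext r
    simp only [Finset.mem_filter, Finset.mem_univ, true_and, Finset.mem_image]
    constructor
    · rintro ⟨⟨hp, hn⟩, ho⟩
      obtain ⟨k, hk, rfl⟩ := orthKs_spec.2 r ho hp
      refine ⟨k, ⟨hk, ?_⟩, rfl⟩
      rw [← himg π k]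
      change ¬ (72 ≤ 2 * (π.1.1 (rt k)).val) at hn
      omega
    · rintro ⟨k, ⟨hk, hlt⟩, rfl⟩
      refine ⟨⟨(orthKs_spec.1 k hk).2, ?_⟩, (orthKs_spec.1 k hk).1⟩
      rw [← himg π k] at hlt
      change ¬ (72 ≤ 2 * (π.1.1 (rt k)).val)
      omega
  calc ∑ π, 2 ^ ninv π.1.1 = ∑ π, wgt (w1Tab.get (idx π)) := Finset.sum_congr rfl fun π _ => hw π
    _ = ∑ i ∈ Finset.univ.image idx, wgt (w1Tab.get i) := (Finset.sum_image (f := fun i => wgt (w1Tab.get i)) fun π _ σ _ e => hinj e).symm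
    _ ≤ ∑ i ∈ Finset.range 1152, wgt (w1Tab.get i) :=
        Finset.sum_le_sum_of_subset (fun i hi => by
          obtain ⟨π, -, rfl⟩ := Finset.mem_image.mp hi
          exact Finset.mem_range.mpr (hidx π))
    _ = 630 := wgt_sum

/-! ### The parabolic Weyl group -/

theorem wordsJ_check : wordsJ.length = 48 ∧ (∀ l ∈ wordsJ, ∀ a ∈ l, a.val < 3) ∧ [] ∈ wordsJ ∧
    (∀ j < 48, ∀ a : Fin 4, a.val < 3 → (nbJ.getD j []).getD a.val 48 < 48 ∧
      ∀ i : Fin Cfsg.Lie.chevE6.rank,
        evalW (wordsJ.getD ((nbJ.getD j []).getD a.val 48) []) (roots10.getD i.val 0) =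
          symE6.wEval a.val (evalW (wordsJ.getD j []) (roots10.getD i.val 0))) := by decide +kernel

theorem wordsJ_nodup : (wordsJ.map fun l => (List.range 6).map fun i => evalW l (roots10.getD i 0)).Nodup := by
  decide +kernel

/-- The length of a word in roots. -/
noncomputable def lenW (l : List (Fin 4)) : ℕ :=
  (Finset.univ.filter fun r : Rt => 36 ≤ r.val ∧ evalW l r.val < 36).card

theorem lenW_sum : ((wordsJ.map lenW).map fun n => 2 ^ n).sum = 16065 := by decide +kernel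

theorem len_wordPerm (l : List (Fin 4)) : S.len (wordPerm l) = lenW l := by
  classical
  refine congrArg Finset.card (Finset.filter_congr fun r _ => ?_)
  show (72 ≤ 2 * r.val ∧ ¬ 72 ≤ 2 * (wordPerm l r).val) ↔ _
  rw [wordPerm_val]
  omega

theorem Wsub012_eq {π : Equiv.Perm Rt} : π ∈ S.Wsub J012 ↔ ∃ l ∈ wordsJ, π = wordPerm l := by
  constructor
  · intro hπ
    obtain ⟨hlen, hlt, hnil, hnb⟩ := wordsJ_check
    have step : ∀ a ∈ J012, ∀ x, (∃ l ∈ wordsJ, x = wordPerm l) → ∃ l ∈ wordsJ, S.w a * x = wordPerm l := by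
      rintro a ha x ⟨l, hl, rfl⟩
      obtain ⟨j, hj, rfl⟩ := List.getElem_of_mem hl
      obtain ⟨h1, h2⟩ := hnb j (by omega) a ha
      refine ⟨wordsJ.getD ((nbJ.getD j []).getD a.val 48) [], ?_, eq_of_simple_imgs (mul_mem (S.w_mem_W1 a) (wordPerm_mem_W1 _))
        (wordPerm_mem_W1 _) fun i => Fin.ext ?_⟩
      · rw [List.getD_eq_getElem _ _ (by omega)]; exact List.getElem_mem _
      have := h2 i
      rw [List.getD_eq_getElem wordsJ [] hj, ← p_val_getD i] at this
      rw [Equiv.Perm.mul_apply, wordPerm_val, this, ← wordPerm_val]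
      exact (symOKE6.wEval_eq (Φ := CfsgLib.Chev.chevE6) a.isLt _).symm
    induction hπ using Subgroup.closure_induction_left with
    | one => exact ⟨[], hnil, rfl⟩
    | mul_left x hx y _ ih => obtain ⟨a, ha, rfl⟩ := hx; exact step a ha y ih
    | inv_mul_cancel x hx y _ ih => obtain ⟨a, ha, rfl⟩ := hx; rw [S.w_inv]; exact step a ha y ih
  · rintro ⟨l, hl, rfl⟩
    exact wordPerm_mem_Wsub l fun a ha => wordsJ_check.2.1 l hl a ha

theorem sum_Wsub012 [Fintype (S.Wsub J012)] : ∑ π : S.Wsub J012, 2 ^ S.len π.1 = 16065 := by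
  classical
  have hinj : ∀ l ∈ wordsJ, ∀ l' ∈ wordsJ, wordPerm l = wordPerm l' → l = l' := fun l hl l' hl' e => by
    refine List.inj_on_of_nodup_map wordsJ_nodup hl hl' (List.map_congr_left fun i hi => ?_)
    have hi6 : i < Cfsg.Lie.chevE6.rank := List.mem_range.mp hi
    rw [← p_val_getD ⟨i, hi6⟩, ← wordPerm_val, ← wordPerm_val, e]
  have hnd : wordsJ.Nodup := List.Nodup.of_map _ wordsJ_nodup
  have e : (Finset.univ : Finset (S.Wsub J012)).map ⟨Subtype.val, Subtype.val_injective⟩ =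
      wordsJ.toFinset.image wordPerm := by
    ext π
    simp only [Finset.mem_map, Finset.mem_univ, true_and, Function.Embedding.coeFn_mk, Finset.mem_image,
      List.mem_toFinset]
    constructor
    · rintro ⟨⟨x, hx⟩, rfl⟩
      obtain ⟨l, hl, rfl⟩ := Wsub012_eq.mp hx
      exact ⟨l, hl, rfl⟩
    · rintro ⟨l, hl, rfl⟩
      exact ⟨⟨_, Wsub012_eq.mpr ⟨l, hl, rfl⟩⟩, rfl⟩
  calc ∑ π : S.Wsub J012, 2 ^ S.len π.1
      = ∑ x ∈ (Finset.univ : Finset (S.Wsub J012)).map ⟨Subtype.val, Subtype.val_injective⟩, 2 ^ S.len x := by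
        rw [Finset.sum_map]; rfl
    _ = ∑ l ∈ wordsJ.toFinset, 2 ^ S.len (wordPerm l) := by
        rw [e, Finset.sum_image fun l hl l' hl' e => hinj l (List.mem_toFinset.mp hl) l' (List.mem_toFinset.mp hl') e]
    _ = 16065 := by
        rw [List.sum_toFinset _ hnd, ← lenW_sum, List.map_map]
        congr 1
        exact List.map_congr_left fun l _ => by rw [Function.comp_apply, len_wordPerm]

end CfsgLib.Chev.T2E6.Five
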