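/-
The rank one subgroup of the outer orbit in ²E₆(2).
-/
import Cfsg.Agent.Lib.TwE6Five.Facts
import Cfsg.Agent.Lib.Chev.SL2Hom
import Mathlib.Algebra.CharP.Frobenius
import Mathlib.Algebra.CharP.Two

namespace CfsgLib.Chev.T2E6.Five

open Cfsg.Lie Chev Matrix

set_option linter.dupNamespace false
set_option linter.unusedSectionVars false
set_option maxRecDepth 100000


variable {K : Type*} [Field K] [Fintype K] [hK : Fact (Fintype.card K = 4)]

theorem card_sq : Fintype.card K = 2 ^ 2 := hK.out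

instance char2 : CharP K 2 := by
  refine (CharP.charP_iff_prime_eq_zero Nat.prime_two).mpr ?_
  have h : ((4 : ℕ) : K) = 0 := by rw [← hK.out]; exact FiniteField.cast_card_eq_zero K
  have h2 : ((2 : ℕ) : K) * ((2 : ℕ) : K) = 0 := by rw [← Nat.cast_mul]; exact h
  exact (mul_eq_zero.mp h2).elim id id

/-- The twisted endomorphism. -/
noncomputable abbrev TT (K : Type*) [Field K] [Fintype K] [Fact (Fintype.card K = 4)] : Tw S K :=
  tw Nat.prime_two.isPrimePow (card_sq (K := K))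

/-- The group. -/
abbrev GG (K : Type*) [Field K] [Fintype K] : Subgroup (GL Cfsg.Lie.chevE6.Idx K) := twistedE6 K 2

theorem hgen : (TT K).Gen (GG K) := gen _ _

theorem GG_eq : GG K = (TT K).fix := eq_fix _ _

theorem cast_eps (r : Rt) : ((TT K).ε r : K) = 1 := by
  show ((morE6.e r.val : ℤ) : K) = 1
  rcases eps_unit r with e | e <;> rw [e] <;> simp [CharTwo.neg_eq]

theorem k_eq (r : Rt) : (TT K).k r = 2 := by
  show morE6.l r.val * 2 = 2
  rw [lam_one, one_mul]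

theorem app_xg2 (r : Rt) (t : K) :
    (TT K).app (CfsgLib.Chev.chevE6.toAlg.xg r t) = CfsgLib.Chev.chevE6.toAlg.xg (S.ρ r) (t ^ 2) := by
  rw [Tw.app_xg, cast_eps, one_mul, k_eq]

theorem hne (a : Fin S.m) : ∃ x ∈ CfsgLib.Chev.chevE6.US K (S.PJ a) ⊓ (TT K).fix, x ≠ 1 := by
  by_contra hc
  push Not at hc
  have h := card_root Nat.prime_two.isPrimePow (card_sq (K := K)) a
  have e : CfsgLib.Chev.chevE6.US K (S.PJ a) ⊓ (TT K).fix = ⊥ := (Subgroup.eq_bot_iff_forall _).mpr hc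
  rw [show CfsgLib.Chev.chevE6.US K (S.PJ a) ⊓ (tw Nat.prime_two.isPrimePow (card_sq (K := K))).fix = ⊥ from e,
    Subgroup.card_bot, one_pow] at h
  have := Nat.one_lt_two_pow (n := S.len (S.w a)) (by have := S.len_w_pos a; omega)
  omega

/-! ### Monomial elements with trivial coefficients -/

/-- A monomial element of the group whose coefficients are one. -/
def RepOne (n : GL Cfsg.Lie.chevE6.Idx K) (π : Equiv.Perm Rt) : Prop :=
  Tw.Rep (TT K) n π ∧ ∀ r t, n * CfsgLib.Chev.chevE6.toAlg.xg r t * n⁻¹ = CfsgLib.Chev.chevE6.toAlg.xg (π r) t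

theorem nw_conj_one (i : Fin Cfsg.Lie.chevE6.rank) (r : Rt) (t : K) :
    CfsgLib.Chev.chevE6.nw (CfsgLib.Chev.chevE6.p i) 1 * CfsgLib.Chev.chevE6.toAlg.xg r t * (CfsgLib.Chev.chevE6.nw (CfsgLib.Chev.chevE6.p i) 1)⁻¹ = CfsgLib.Chev.chevE6.toAlg.xg (CfsgLib.Chev.chevE6.reflPerm i r) t := by
  rw [CfsgLib.Chev.chevE6.nw_conj_xg, mul_inv_cancel_right, CfsgLib.Chev.chevE6.reflPerm_apply]
  congr 1
  rcases CfsgLib.Chev.chevE6.eta_unit i r with e | e <;> rw [e] <;> simp [CharTwo.neg_eq]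

theorem refl_pair : ∀ a : Fin 4, ∀ i j : Fin Cfsg.Lie.chevE6.rank,
    (a.val = 2 ∧ i = ix 2 ∧ j = ix 4) ∨ (a.val = 3 ∧ i = ix 0 ∧ j = ix 5) →
    CfsgLib.Chev.chevE6.refl i (CfsgLib.Chev.chevE6.p j) = CfsgLib.Chev.chevE6.p j := by decide +kernel

theorem nw_commute {i j : Fin Cfsg.Lie.chevE6.rank} (h : CfsgLib.Chev.chevE6.refl i (CfsgLib.Chev.chevE6.p j) = CfsgLib.Chev.chevE6.p j) :
    Commute (CfsgLib.Chev.chevE6.nw (CfsgLib.Chev.chevE6.p i) (1 : Kˣ)) (CfsgLib.Chev.chevE6.nw (CfsgLib.Chev.chevE6.p j) 1) := by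
  have key : ∀ (r : Rt), CfsgLib.Chev.chevE6.refl i r = r → ∀ t : K,
      Commute (CfsgLib.Chev.chevE6.nw (CfsgLib.Chev.chevE6.p i) (1 : Kˣ)) (CfsgLib.Chev.chevE6.toAlg.xg r t) := fun r hr t => by
    have e := nw_conj_one i r t
    rw [CfsgLib.Chev.chevE6.reflPerm_apply, hr] at e
    exact mul_inv_eq_iff_eq_mul.mp e
  have hrev : CfsgLib.Chev.chevE6.refl i (CfsgLib.Chev.chevE6.p j).rev = (CfsgLib.Chev.chevE6.p j).rev := by rw [CfsgLib.Chev.chevE6.refl_rev, h]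
  exact ((key _ h _).mul_right (key _ hrev _)).mul_right (key _ h _)

theorem exists_repOne_w (a : Fin S.m) : ∃ n : GL Cfsg.Lie.chevE6.Idx K, RepOne n (S.w a) := by
  have one : ∀ (b : Fin S.m) (i : Fin Cfsg.Lie.chevE6.rank), Tw.One (S := S) b i →
      ∃ n : GL Cfsg.Lie.chevE6.Idx K, RepOne n (S.w b) := fun b i ho => by
    refine ⟨CfsgLib.Chev.chevE6.nw (CfsgLib.Chev.chevE6.p i) 1, ⟨CfsgLib.Chev.chevE6.nw_mem_N _ _, ⟨CfsgLib.Chev.chevE6.nw_mem_group _ _, ?_⟩,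
      by rw [ho.hw]; exact CfsgLib.Chev.chevE6.nw_one_mono i⟩, fun r t => by rw [ho.hw]; exact nw_conj_one i r t⟩
    rw [(TT K).app_nw, ho.tau, one_pow]
  have two : ∀ (b : Fin S.m) (i j : Fin Cfsg.Lie.chevE6.rank), Tw.Two (S := S) b i j →
      CfsgLib.Chev.chevE6.refl i (CfsgLib.Chev.chevE6.p j) = CfsgLib.Chev.chevE6.p j → ∃ n : GL Cfsg.Lie.chevE6.Idx K, RepOne n (S.w b) := fun b i j ho hr => by
    refine ⟨CfsgLib.Chev.chevE6.nw (CfsgLib.Chev.chevE6.p i) 1 * CfsgLib.Chev.chevE6.nw (CfsgLib.Chev.chevE6.p j) 1, ⟨mul_mem (CfsgLib.Chev.chevE6.nw_mem_N _ _) (CfsgLib.Chev.chevE6.nw_mem_N _ _),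
      ⟨mul_mem (CfsgLib.Chev.chevE6.nw_mem_group _ _) (CfsgLib.Chev.chevE6.nw_mem_group _ _), ?_⟩,
      by rw [ho.hw]; exact Mono.mul CfsgLib.Chev.chevE6 (CfsgLib.Chev.chevE6.nw_one_mono i) (CfsgLib.Chev.chevE6.nw_one_mono j)⟩, fun r t => ?_⟩
    · rw [(TT K).app_mul (CfsgLib.Chev.chevE6.nw_mem_group _ _) (CfsgLib.Chev.chevE6.nw_mem_group _ _), (TT K).app_nw, (TT K).app_nw,
        ho.hij, ho.hji, one_pow, one_pow, (nw_commute hr).eq]
    · rw [ho.hw, Equiv.Perm.mul_apply, show CfsgLib.Chev.chevE6.nw (CfsgLib.Chev.chevE6.p i) 1 * CfsgLib.Chev.chevE6.nw (CfsgLib.Chev.chevE6.p j) 1 * CfsgLib.Chev.chevE6.toAlg.xg r t *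
          (CfsgLib.Chev.chevE6.nw (CfsgLib.Chev.chevE6.p i) 1 * CfsgLib.Chev.chevE6.nw (CfsgLib.Chev.chevE6.p j) 1)⁻¹ = CfsgLib.Chev.chevE6.nw (CfsgLib.Chev.chevE6.p i) 1 * (CfsgLib.Chev.chevE6.nw (CfsgLib.Chev.chevE6.p j) 1 *
            CfsgLib.Chev.chevE6.toAlg.xg r t * (CfsgLib.Chev.chevE6.nw (CfsgLib.Chev.chevE6.p j) 1)⁻¹) * (CfsgLib.Chev.chevE6.nw (CfsgLib.Chev.chevE6.p i) 1)⁻¹ by group,
        nw_conj_one, nw_conj_one]
  match a with
  | ⟨0, _⟩ => exact one _ _ orb0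
  | ⟨1, _⟩ => exact one _ _ orb1
  | ⟨2, _⟩ => exact two _ _ _ orb2 (refl_pair 2 _ _ (Or.inl ⟨rfl, rfl, rfl⟩))
  | ⟨3, _⟩ => exact two _ _ _ orb3 (refl_pair 3 _ _ (Or.inr ⟨rfl, rfl, rfl⟩))

theorem exists_repOne {π : Equiv.Perm Rt} (hπ : π ∈ S.W1) :
    ∃ n : GL Cfsg.Lie.chevE6.Idx K, RepOne n π := by
  rw [S.W1_eq_closure] at hπ
  induction hπ using Subgroup.closure_induction with
  | mem x hx => obtain ⟨a, rfl⟩ := hx; exact exists_repOne_w a
  | one => exact ⟨1, Tw.Rep.one, fun r t => by simp⟩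
  | mul x y _ _ hx hy =>
    obtain ⟨n, hn, hn'⟩ := hx
    obtain ⟨m, hm, hm'⟩ := hy
    refine ⟨n * m, hn.mul hm, fun r t => ?_⟩
    rw [show n * m * CfsgLib.Chev.chevE6.toAlg.xg r t * (n * m)⁻¹ = n * (m * CfsgLib.Chev.chevE6.toAlg.xg r t * m⁻¹) * n⁻¹ by group,
      hm', hn', Equiv.Perm.mul_apply]
  | inv x _ hx =>
    obtain ⟨n, hn, hn'⟩ := hx
    refine ⟨n⁻¹, hn.inv, fun r t => ?_⟩
    have e := hn' (x⁻¹ r) t
    rw [perm_apply_inv] at e
    rw [← e]
    group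

/-! ### The homomorphism from SL₂ -/

theorem pair_facts : ∀ r s : Rt, (r = CfsgLib.Chev.chevE6.p (ix 0) ∨ r = (CfsgLib.Chev.chevE6.p (ix 0)).rev) →
    (s = CfsgLib.Chev.chevE6.p (ix 5) ∨ s = (CfsgLib.Chev.chevE6.p (ix 5)).rev) → s ≠ r.rev ∧ CfsgLib.Chev.chevE6.N r s = 0 := by decide +kernel

theorem xg_pair_commute {F : Type*} [Field F] {r s : Rt} (hr : r = CfsgLib.Chev.chevE6.p (ix 0) ∨ r = (CfsgLib.Chev.chevE6.p (ix 0)).rev)
    (hs : s = CfsgLib.Chev.chevE6.p (ix 5) ∨ s = (CfsgLib.Chev.chevE6.p (ix 5)).rev) (a b : F) :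
    Commute (CfsgLib.Chev.chevE6.toAlg.xg r a) (CfsgLib.Chev.chevE6.toAlg.xg s b) :=
  CfsgLib.Chev.chevE6.toAlg.xg_commute (pair_facts r s hr hs).1 (pair_facts r s hr hs).2 a b

/-- The homomorphism of the first root. -/
noncomputable def phi0 (F : Type*) [Field F] : SpecialLinearGroup (Fin 2) F →* GL Cfsg.Lie.chevE6.Idx F :=
  (CfsgLib.Chev.chevE6.rankOne F (CfsgLib.Chev.chevE6.p (ix 0))).hom

/-- The homomorphism of the second root. -/
noncomputable def phi5 (F : Type*) [Field F] : SpecialLinearGroup (Fin 2) F →* GL Cfsg.Lie.chevE6.Idx F :=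
  (CfsgLib.Chev.chevE6.rankOne F (CfsgLib.Chev.chevE6.p (ix 5))).hom

theorem closure_u_l (F : Type*) [Field F] :
    Subgroup.closure (Set.range (RankOne.u (F := F)) ∪ Set.range RankOne.l) = ⊤ := by
  rw [eq_top_iff, ← RankOne.closure_u_w, Subgroup.closure_le]
  rintro g (⟨t, rfl⟩ | rfl)
  · exact Subgroup.subset_closure (Or.inl ⟨t, rfl⟩)
  · rw [show (RankOne.w : SpecialLinearGroup (Fin 2) F) = RankOne.u 1 * RankOne.l (-1) * RankOne.u 1 from
      Subtype.ext (by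
        simp only [RankOne.val_mul]
        ext i j; fin_cases i <;> fin_cases j <;>
          simp [RankOne.u, RankOne.l, RankOne.w, Matrix.mul_apply, Fin.sum_univ_two])]
    exact mul_mem (mul_mem (Subgroup.subset_closure (Or.inl ⟨1, rfl⟩))
      (Subgroup.subset_closure (Or.inr ⟨-1, rfl⟩))) (Subgroup.subset_closure (Or.inl ⟨1, rfl⟩))

theorem phi_u (F : Type*) [Field F] (t : F) :
    phi0 F (RankOne.u t) = CfsgLib.Chev.chevE6.toAlg.xg (CfsgLib.Chev.chevE6.p (ix 0)) t ∧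
      phi5 F (RankOne.u t) = CfsgLib.Chev.chevE6.toAlg.xg (CfsgLib.Chev.chevE6.p (ix 5)) t :=
  ⟨RankOne.hom_u _ t, RankOne.hom_u _ t⟩

theorem phi_l (F : Type*) [Field F] (t : F) :
    phi0 F (RankOne.l t) = CfsgLib.Chev.chevE6.toAlg.xg (CfsgLib.Chev.chevE6.p (ix 0)).rev t ∧
      phi5 F (RankOne.l t) = CfsgLib.Chev.chevE6.toAlg.xg (CfsgLib.Chev.chevE6.p (ix 5)).rev t :=
  ⟨RankOne.hom_l _ t, RankOne.hom_l _ t⟩

theorem commute_phi {F : Type*} [Field F] (P Q : SpecialLinearGroup (Fin 2) F) :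
    Commute (phi0 F P) (phi5 F Q) := by
  have hP : P ∈ Subgroup.closure (Set.range (RankOne.u (F := F)) ∪ Set.range RankOne.l) := by
    rw [closure_u_l]; trivial
  have hQ : Q ∈ Subgroup.closure (Set.range (RankOne.u (F := F)) ∪ Set.range RankOne.l) := by
    rw [closure_u_l]; trivial
  induction hP using Subgroup.closure_induction with
  | mem g hg =>
    induction hQ using Subgroup.closure_induction with
    | mem g' hg' =>
      rcases hg with ⟨t, rfl⟩ | ⟨t, rfl⟩ <;> rcases hg' with ⟨t', rfl⟩ | ⟨t', rfl⟩ <;>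
        simp only [(phi_u F _).1, (phi_u F _).2, (phi_l F _).1, (phi_l F _).2] <;>
        exact xg_pair_commute (by first | exact Or.inl rfl | exact Or.inr rfl)
          (by first | exact Or.inl rfl | exact Or.inr rfl) _ _
    | one => rw [map_one]; exact Commute.one_right _
    | mul x y _ _ hx hy => rw [map_mul]; exact hx.mul_right hy
    | inv x _ hx => rw [map_inv]; exact hx.inv_right
  | one => rw [map_one]; exact Commute.one_left _
  | mul x y _ _ hx hy => rw [map_mul]; exact hx.mul_left hy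
  | inv x _ hx => rw [map_inv]; exact hx.inv_left

/-- The entrywise square. -/
noncomputable def sig : SpecialLinearGroup (Fin 2) K →* SpecialLinearGroup (Fin 2) K :=
  SpecialLinearGroup.map (frobenius K 2)

theorem sig_apply (Q : SpecialLinearGroup (Fin 2) K) (i j : Fin 2) : (sig Q).1 i j = Q.1 i j ^ 2 := rfl

theorem sig_u (t : K) : sig (RankOne.u t) = RankOne.u (t ^ 2) := by
  ext i j
  rw [sig_apply]
  fin_cases i <;> fin_cases j <;> simp [RankOne.u]

theorem sig_l (t : K) : sig (RankOne.l t) = RankOne.l (t ^ 2) := by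
  ext i j
  rw [sig_apply]
  fin_cases i <;> fin_cases j <;> simp [RankOne.l]

/-- The homomorphism onto the rank one subgroup of the outer orbit. -/
noncomputable def psi : SpecialLinearGroup (Fin 2) K →* GL Cfsg.Lie.chevE6.Idx K :=
  MonoidHom.mk' (fun Q => phi0 K Q * phi5 K (sig Q)) fun P Q => by
    rw [map_mul, map_mul, map_mul, mul_assoc (phi0 K P), mul_assoc (phi0 K P),
      ← mul_assoc (phi0 K Q), (commute_phi Q (sig P)).eq, mul_assoc]

theorem psi_def (Q : SpecialLinearGroup (Fin 2) K) : psi Q = phi0 K Q * phi5 K (sig Q) := rfl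

theorem pow_four (t : K) : (t ^ 2) ^ 2 = t := by
  rw [← pow_mul, show 2 * 2 = Fintype.card K from hK.out.symm]
  exact FiniteField.pow_card t

theorem psi_mem_Lev (Q : SpecialLinearGroup (Fin 2) K) : psi Q ∈ Tw.Lev (TT K) (ox 3) := by
  have hQ : Q ∈ Subgroup.closure (Set.range (RankOne.u (F := K)) ∪ Set.range RankOne.l) := by
    rw [closure_u_l]; trivial
  induction hQ using Subgroup.closure_induction with
  | mem g hg =>
    rcases hg with ⟨t, rfl⟩ | ⟨t, rfl⟩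
    · rw [psi_def, sig_u, (phi_u K _).1, (phi_u K _).2]
      refine Subgroup.mem_sup_left (Subgroup.mem_inf.mpr ⟨mul_mem (CfsgLib.Chev.chevE6.xg_mem_US (S.p_mem_PJ orb3.mem.1) _)
        (CfsgLib.Chev.chevE6.xg_mem_US (S.p_mem_PJ orb3.mem.2) _), ?_⟩)
      exact (orb3.app (T := TT K) (x := t) (y := t ^ 2) (by rw [k_eq]) (by rw [k_eq, pow_four])).1
    · rw [psi_def, sig_l, (phi_l K _).1, (phi_l K _).2]
      refine Subgroup.mem_sup_right (Subgroup.mem_inf.mpr ⟨mul_mem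
        (CfsgLib.Chev.chevE6.xg_mem_US (S := fun r => S.PJ (ox 3) r.rev) (by rw [Fin.rev_rev]; exact S.p_mem_PJ orb3.mem.1) _)
        (CfsgLib.Chev.chevE6.xg_mem_US (S := fun r => S.PJ (ox 3) r.rev) (by rw [Fin.rev_rev]; exact S.p_mem_PJ orb3.mem.2) _), ?_⟩)
      exact (orb3.app (T := TT K) (x := t) (y := t ^ 2) (by rw [k_eq]) (by rw [k_eq, pow_four])).2
  | one => rw [map_one]; exact one_mem _
  | mul x y _ _ hx hy => rw [map_mul]; exact mul_mem hx hy
  | inv x _ hx => rw [map_inv]; exact inv_mem hx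

theorem Lev_le_fix (a : Fin S.m) : Tw.Lev (TT K) a ≤ (TT K).fix := sup_le inf_le_right inf_le_right

theorem psi_swap {n : GL Cfsg.Lie.chevE6.Idx K} {π : Equiv.Perm Rt} (hn : RepOne n π)
    (h0 : π (CfsgLib.Chev.chevE6.p (ix 0)) = CfsgLib.Chev.chevE6.p (ix 5)) (h5 : π (CfsgLib.Chev.chevE6.p (ix 5)) = CfsgLib.Chev.chevE6.p (ix 0))
    (Q : SpecialLinearGroup (Fin 2) K) : n * psi Q * n⁻¹ = psi (sig Q) := by
  have hW := (S.mem_W1.mp hn.1.mem_W1).1
  have hQ : Q ∈ Subgroup.closure (Set.range (RankOne.u (F := K)) ∪ Set.range RankOne.l) := by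
    rw [closure_u_l]; trivial
  have conj2 : ∀ (r s : Rt) (a b : K), n * (CfsgLib.Chev.chevE6.toAlg.xg r a * CfsgLib.Chev.chevE6.toAlg.xg s b) * n⁻¹ =
      CfsgLib.Chev.chevE6.toAlg.xg (π r) a * CfsgLib.Chev.chevE6.toAlg.xg (π s) b := fun r s a b => by
    rw [← hn.2, ← hn.2]; group
  induction hQ using Subgroup.closure_induction with
  | mem g hg =>
    rcases hg with ⟨t, rfl⟩ | ⟨t, rfl⟩
    · rw [psi_def, psi_def, sig_u, sig_u, (phi_u K _).1, (phi_u K _).2, (phi_u K _).1, (phi_u K _).2,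
        conj2, h0, h5, pow_four]
      exact (xg_pair_commute (Or.inl rfl) (Or.inl rfl) _ _).symm.eq
    · rw [psi_def, psi_def, sig_l, sig_l, (phi_l K _).1, (phi_l K _).2, (phi_l K _).1, (phi_l K _).2,
        conj2, CfsgLib.Chev.chevE6.W_rev hW, CfsgLib.Chev.chevE6.W_rev hW, h0, h5, pow_four]
      exact (xg_pair_commute (Or.inr rfl) (Or.inr rfl) _ _).symm.eq
  | one => simp
  | mul x y _ _ hx hy => rw [map_mul, map_mul, map_mul, ← hx, ← hy]; group
  | inv x _ hx => rw [map_inv, map_inv, map_inv, ← hx]; group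

/-! ### The Borel subgroup and the unipotent radical -/

theorem exists_phi_nw {F : Type*} [Field F] (t : Fˣ) :
    (∃ m, phi0 F m = (CfsgLib.Chev.chevE6.rankOne F (CfsgLib.Chev.chevE6.p (ix 0))).n t) ∧
      ∃ m, phi5 F m = (CfsgLib.Chev.chevE6.rankOne F (CfsgLib.Chev.chevE6.p (ix 5))).n t := by
  constructor
  · refine ⟨RankOne.u (t : F) * RankOne.l (-(t : F)⁻¹) * RankOne.u (t : F), ?_⟩
    rw [map_mul, map_mul, (phi_u F _).1, (phi_l F _).1]; rfl
  · refine ⟨RankOne.u (t : F) * RankOne.l (-(t : F)⁻¹) * RankOne.u (t : F), ?_⟩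
    rw [map_mul, map_mul, (phi_u F _).2, (phi_l F _).2]; rfl

theorem psi_mem_B {Q : SpecialLinearGroup (Fin 2) K} (h : psi Q ∈ Cfsg.Lie.chevE6.borelSubgroup K) :
    Q.1 1 0 = 0 := by
  by_contra hc
  have hc' : (sig Q).1 1 0 ≠ 0 := by rw [sig_apply]; exact pow_ne_zero 2 hc
  set R0 := CfsgLib.Chev.chevE6.rankOne K (CfsgLib.Chev.chevE6.p (ix 0))
  set R5 := CfsgLib.Chev.chevE6.rankOne K (CfsgLib.Chev.chevE6.p (ix 5))
  have e0 : phi0 K Q = R0.f Q := rfl
  have e5 : phi5 K (sig Q) = R5.f (sig Q) := rfl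
  rw [psi_def, e0, e5, R0.f_of_ne hc (Units.mk0 _ (neg_ne_zero.mpr (inv_ne_zero hc))) rfl,
    R5.f_of_ne hc' (Units.mk0 _ (neg_ne_zero.mpr (inv_ne_zero hc'))) rfl] at h
  set A := Q.1 0 0 / Q.1 1 0
  set C := Q.1 1 1 / Q.1 1 0
  set A' := (sig Q).1 0 0 / (sig Q).1 1 0
  set C' := (sig Q).1 1 1 / (sig Q).1 1 0
  set N := R0.n (Units.mk0 _ (neg_ne_zero.mpr (inv_ne_zero hc)))
  set N' := R5.n (Units.mk0 _ (neg_ne_zero.mpr (inv_ne_zero hc')))
  have hx : ∀ t : K, R0.x t = phi0 K (RankOne.u t) := fun t => ((phi_u K t).1).symm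
  have hx' : ∀ t : K, R5.x t = phi5 K (RankOne.u t) := fun t => ((phi_u K t).2).symm
  have hN : ∀ g, Commute N (phi5 K g) := fun g => by
    obtain ⟨m, hm⟩ : ∃ m, phi0 K m = N := (exists_phi_nw _).1
    exact hm ▸ commute_phi m g
  have c1 : Commute (R0.x C) (R5.x A') := by rw [hx, hx']; exact commute_phi _ _
  have c2 : Commute N (R5.x A') := by rw [hx']; exact hN _
  have c3 : Commute (R0.x C) N' := by
    obtain ⟨m, hm⟩ : ∃ m, phi5 K m = N' := (exists_phi_nw _).2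
    rw [hx, ← hm]; exact commute_phi _ _
  have e : R0.x A * N * R0.x C * (R5.x A' * N' * R5.x C') =
      R0.x A * R5.x A' * (N * N') * (R0.x C * R5.x C') :=
    calc R0.x A * N * R0.x C * (R5.x A' * N' * R5.x C')
        = R0.x A * N * (R0.x C * R5.x A') * N' * R5.x C' := by simp only [mul_assoc]
      _ = R0.x A * (N * R5.x A') * (R0.x C * N') * R5.x C' := by rw [c1.eq]; simp only [mul_assoc]
      _ = R0.x A * (R5.x A' * N) * (N' * R0.x C) * R5.x C' := by rw [c2.eq, c3.eq]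
      _ = _ := by simp only [mul_assoc]
  rw [e] at h
  have hxB : ∀ (t t' : K), R0.x t * R5.x t' ∈ Cfsg.Lie.chevE6.borelSubgroup K := fun t t' =>
    mul_mem (CfsgLib.Chev.chevE6.xg_mem_B (CfsgLib.Chev.chevE6.p_pos _) _) (CfsgLib.Chev.chevE6.xg_mem_B (CfsgLib.Chev.chevE6.p_pos _) _)
  have hNB : N * N' ∈ Cfsg.Lie.chevE6.borelSubgroup K :=
    (Subgroup.mul_mem_cancel_left _ (hxB A A')).mp ((Subgroup.mul_mem_cancel_right _ (hxB C C')).mp h)
  have hNN : N * N' ∈ Cfsg.Lie.chevE6.monomialSubgroup K := mul_mem (CfsgLib.Chev.chevE6.nw_mem_N _ _) (CfsgLib.Chev.chevE6.nw_mem_N _ _)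
  have hH : N * N' ∈ Cfsg.Lie.chevE6.diagonalSubgroup K := by rw [← CfsgLib.Chev.chevE6.B_inf_N]; exact ⟨hNB, hNN⟩
  have hm : ∀ (i : Fin Cfsg.Lie.chevE6.rank) (t : Kˣ),
      CfsgLib.Chev.chevE6.Mono (CfsgLib.Chev.chevE6.nw (CfsgLib.Chev.chevE6.p i) t) (CfsgLib.Chev.chevE6.reflPerm i) := fun i t => by
    rw [CfsgLib.Chev.chevE6.nw_eq_hw_mul]
    have := Mono.mul CfsgLib.Chev.chevE6 ((CfsgLib.Chev.chevE6.mem_H_iff_mono_one (H_le_N (CfsgLib.Chev.chevE6.hw_mem_H (CfsgLib.Chev.chevE6.p i) t))).mp (CfsgLib.Chev.chevE6.hw_mem_H _ _))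
      (CfsgLib.Chev.chevE6.nw_one_mono (F := K) i)
    rwa [one_mul] at this
  have h2 := Mono.unique CfsgLib.Chev.chevE6 ((CfsgLib.Chev.chevE6.mem_H_iff_mono_one hNN).mp hH) (Mono.mul CfsgLib.Chev.chevE6 (hm (ix 0) _) (hm (ix 5) _))
  rw [← orb3.hw] at h2
  exact (hgen (K := K)).w_ne_one _ h2.symm

theorem neg_one_eq : (-1 : K) = 1 := CharTwo.neg_eq 1

/-- A companion matrix. -/
def comp (t : K) : SpecialLinearGroup (Fin 2) K :=
  ⟨!![0, 1; 1, t], by simp [Matrix.det_fin_two, CharTwo.neg_eq]⟩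

theorem psi_mem_normalizer (Q : SpecialLinearGroup (Fin 2) K) :
    psi Q ∈ Subgroup.normalizer (CfsgLib.Chev.chevE6.US K (CfsgLib.Chev.chevE6.Out (S.J (ox 3))) : Set (GL Cfsg.Lie.chevE6.Idx K)) :=
  (Subgroup.mem_inf.mp (Tw.Lev_le_normalizer _ (psi_mem_Lev Q))).1

theorem eq_one_of_psi_mem_out {Q : SpecialLinearGroup (Fin 2) K}
    (h : psi Q ∈ CfsgLib.Chev.chevE6.US K (CfsgLib.Chev.chevE6.Out (S.J (ox 3)))) : Q = 1 := by
  have hB : ∀ R : SpecialLinearGroup (Fin 2) K, (R * Q * R⁻¹).1 1 0 = 0 := fun R => by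
    refine psi_mem_B (Subgroup.mem_sup_left ?_)
    rw [CfsgLib.Chev.chevE6.posUnipotent_eq_US, map_mul, map_mul, map_inv]
    exact CfsgLib.Chev.chevE6.US_mono (F := K) (fun r hr => Out.pos CfsgLib.Chev.chevE6 hr)
      ((Subgroup.mem_normalizer_iff.mp (psi_mem_normalizer R) _).mp h)
  have hc : Q.1 1 0 = 0 := by simpa using hB 1
  have hW : (comp (0 : K))⁻¹ = comp 0 := inv_eq_of_mul_eq_one_right (by
    ext i j; rw [RankOne.val_mul]; fin_cases i <;> fin_cases j <;> simp [comp, Matrix.mul_apply, Fin.sum_univ_two])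
  have hU : (RankOne.u (1 : K))⁻¹ = RankOne.u 1 := inv_eq_of_mul_eq_one_right (by
    ext i j; rw [RankOne.val_mul]; fin_cases i <;> fin_cases j <;>
      simp [RankOne.u, Matrix.mul_apply, Fin.sum_univ_two, CharTwo.add_self_eq_zero])
  have hw := hB (comp 0)
  have hu := hB (comp 0 * RankOne.u 1)
  rw [hW] at hw
  rw [_root_.mul_inv_rev, hW, hU] at hu
  simp only [RankOne.val_mul] at hw hu
  simp [comp, RankOne.u, Matrix.mul_apply, Matrix.vecMul, dotProduct, Fin.sum_univ_two, hc] at hw hu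
  rw [hw] at hu
  simp only [add_zero, zero_add] at hu
  have ha : Q.1 0 0 = Q.1 1 1 := CharTwo.add_eq_zero.mp hu
  have hdet := Q.2
  rw [Matrix.det_fin_two, hc, hw, ← ha, mul_zero, sub_zero] at hdet
  have h1 : Q.1 0 0 = 1 := by
    have : (Q.1 0 0 - 1) ^ 2 = 0 := by
      have e : (2 : K) = 0 := CharTwo.two_eq_zero
      linear_combination hdet + (1 - Q.1 0 0) * e
    exact sub_eq_zero.mp (pow_eq_zero_iff (two_ne_zero) |>.mp this)
  ext i j
  fin_cases i <;> fin_cases j <;> simp [h1, hw, hc, ← ha]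

/-! ### The element of order five -/

theorem exists_omega (K : Type*) [Field K] [Fintype K] [Fact (Fintype.card K = 4)] :
    ∃ w : K, w ≠ 0 ∧ w ≠ 1 := by
  classical
  by_contra hc
  push Not at hc
  have h : (Finset.univ : Finset K) ⊆ {0, 1} := fun x _ => by
    by_cases h0 : x = 0
    · simp [h0]
    · simp [hc x h0]
  have h4 := Finset.card_le_card h
  rw [Finset.card_univ, (Fact.out : Fintype.card K = 4)] at h4
  exact absurd (h4.trans Finset.card_le_two) (by norm_num)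

/-- A primitive cube root of one. -/
noncomputable def om (K : Type*) [Field K] [Fintype K] [Fact (Fintype.card K = 4)] : K :=
  (exists_omega K).choose

theorem om_ne : om K ≠ 0 ∧ om K ≠ 1 := (exists_omega K).choose_spec

theorem om_sq : om K ^ 2 = om K + 1 := by
  obtain ⟨h0, h1⟩ := om_ne (K := K)
  have h4 := pow_four (om K)
  have e : om K * (om K - 1) * (om K ^ 2 + om K + 1) = 0 := by linear_combination h4
  rcases mul_eq_zero.mp e with h | h
  · rcases mul_eq_zero.mp h with h | h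
    · exact absurd h h0
    · exact absurd (sub_eq_zero.mp h) h1
  · linear_combination h - (om K + 1) * (CharTwo.two_eq_zero : (2 : K) = 0)

theorem om_cube : om K ^ 3 = 1 := by
  linear_combination (om K + 1) * om_sq (K := K) + om K * (CharTwo.two_eq_zero : (2 : K) = 0)

theorem sig_comp (t : K) : sig (comp t) = comp (t ^ 2) := by
  ext i j
  rw [sig_apply]
  fin_cases i <;> fin_cases j <;> simp [comp]

theorem exists_conj_comp (N : SpecialLinearGroup (Fin 2) K) (hc : N.1 1 0 ≠ 0) :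
    ∃ Q : SpecialLinearGroup (Fin 2) K, Q * comp (N.1 0 0 + N.1 1 1) * Q⁻¹ = N := by
  set a := N.1 0 0 with ha
  set c := N.1 1 0 with hc0
  have hc3 : c ^ 3 = 1 := by
    have h4 := pow_four c
    have e : c * (c ^ 3 - 1) = 0 := by linear_combination h4
    exact sub_eq_zero.mp ((mul_eq_zero.mp e).resolve_left hc)
  let Q : SpecialLinearGroup (Fin 2) K :=
    ⟨!![c, c * a; 0, c ^ 2], by rw [Matrix.det_fin_two_of]; linear_combination hc3⟩
  refine ⟨Q, mul_inv_eq_iff_eq_mul.mpr (Subtype.ext ?_)⟩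
  have hdet := N.2
  rw [Matrix.det_fin_two] at hdet
  have e2 : (2 : K) = 0 := CharTwo.two_eq_zero
  simp only [RankOne.val_mul]
  ext i j
  fin_cases i <;> fin_cases j <;>
    simp [Q, comp, Matrix.mul_apply, Fin.sum_univ_two, ← ha, ← hc0]
  · ring
  · rw [← ha, ← hc0] at hdet; linear_combination c * hdet + c * e2
  · ring
  · ring

end CfsgLib.Chev.T2E6.Five
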