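/-
The unipotent elements commuting with the element of order five.
-/
import Cfsg.Agent.Lib.TwE6Five.SL2
import Cfsg.Agent.Lib.Chev.FieldFixed
import Mathlib.FieldTheory.IsAlgClosed.AlgebraicClosure
import Mathlib.GroupTheory.NoncommCoprod

namespace CfsgLib.Chev.T2E6.Five

open Cfsg.Lie Chev Matrix

set_option linter.dupNamespace false
set_option linter.unusedSectionVars false
set_option maxRecDepth 100000

section general

variable {D : ChevalleyDatum} (Φ : Chev D) {F : Type*} [Field F]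

theorem prodL_extend {A : Fin D.nroots → Prop} [DecidablePred A] (hA : ∀ r, A r → Φ.toTables.Pos r)
    (c : Fin D.nroots → F) :
    Φ.prodL (rootList Φ.toTables.Pos) (fun r => if A r then c r else 0) = Φ.prodL (rootList A) c := by
  have e : rootList A = (rootList Φ.toTables.Pos).filter fun r => decide (A r) := by
    rw [rootList, rootList, List.filter_filter]
    refine List.filter_congr fun r _ => ?_
    by_cases h : A r <;> simp [h, hA r]
  rw [e]
  generalize rootList Φ.toTables.Pos = L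
  induction L with
  | nil => simp [prodL]
  | cons a L ih =>
    by_cases h : A a
    · simp only [prodL, List.map_cons, List.prod_cons, List.filter_cons, h, decide_true, if_true] at ih ⊢
      rw [ih]
    · simp only [prodL, List.map_cons, List.prod_cons, List.filter_cons, h, decide_false, if_false,
        Bool.false_eq_true, Alg.xg_zero, one_mul] at ih ⊢
      rw [ih]

end general

variable {F : Type*} [Field F]

theorem phi_mem_normalizer (Q : SpecialLinearGroup (Fin 2) F) :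
    phi0 F Q ∈ Subgroup.normalizer
        (CfsgLib.Chev.chevE6.US F (CfsgLib.Chev.chevE6.Out (S.J (ox 3))) : Set (GL Cfsg.Lie.chevE6.Idx F)) ∧
      phi5 F Q ∈ Subgroup.normalizer
        (CfsgLib.Chev.chevE6.US F (CfsgLib.Chev.chevE6.Out (S.J (ox 3))) : Set (GL Cfsg.Lie.chevE6.Idx F)) := by
  have hQ : Q ∈ Subgroup.closure (Set.range (RankOne.u (F := F)) ∪ Set.range RankOne.l) := by
    rw [closure_u_l]; trivial
  have h0 : CfsgLib.Chev.chevE6.Sub (S.J (ox 3)) (CfsgLib.Chev.chevE6.p (ix 0)) :=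
    CfsgLib.Chev.chevE6.sub_p.mpr orb3.mem.1
  have h5 : CfsgLib.Chev.chevE6.Sub (S.J (ox 3)) (CfsgLib.Chev.chevE6.p (ix 5)) :=
    CfsgLib.Chev.chevE6.sub_p.mpr orb3.mem.2
  induction hQ using Subgroup.closure_induction with
  | mem g hg =>
    rcases hg with ⟨t, rfl⟩ | ⟨t, rfl⟩
    · rw [(phi_u F t).1, (phi_u F t).2]
      exact ⟨CfsgLib.Chev.chevE6.xg_mem_normalizer_out h0 t, CfsgLib.Chev.chevE6.xg_mem_normalizer_out h5 t⟩
    · rw [(phi_l F t).1, (phi_l F t).2]
      exact ⟨CfsgLib.Chev.chevE6.xg_mem_normalizer_out (CfsgLib.Chev.chevE6.sub_rev.mpr h0) t,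
        CfsgLib.Chev.chevE6.xg_mem_normalizer_out (CfsgLib.Chev.chevE6.sub_rev.mpr h5) t⟩
  | one => simp only [map_one]; exact ⟨one_mem _, one_mem _⟩
  | mul x y _ _ hx hy => simp only [map_mul]; exact ⟨mul_mem hx.1 hy.1, mul_mem hx.2 hy.2⟩
  | inv x _ hx => simp only [map_inv]; exact ⟨Subgroup.inv_mem _ hx.1, Subgroup.inv_mem _ hx.2⟩

theorem phi_commute_orth {r : Rt} (hr : OrthR r) (s : F) (Q : SpecialLinearGroup (Fin 2) F) :
    Commute (CfsgLib.Chev.chevE6.toAlg.xg r s) (phi0 F Q) ∧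
      Commute (CfsgLib.Chev.chevE6.toAlg.xg r s) (phi5 F Q) := by
  have hQ : Q ∈ Subgroup.closure (Set.range (RankOne.u (F := F)) ∪ Set.range RankOne.l) := by
    rw [closure_u_l]; trivial
  obtain ⟨a1, a2, a3, a4⟩ := orth_comm r hr (ix 0) (Or.inl rfl)
  obtain ⟨b1, b2, b3, b4⟩ := orth_comm r hr (ix 5) (Or.inr rfl)
  induction hQ using Subgroup.closure_induction with
  | mem g hg =>
    rcases hg with ⟨t, rfl⟩ | ⟨t, rfl⟩
    · rw [(phi_u F t).1, (phi_u F t).2]
      exact ⟨CfsgLib.Chev.chevE6.toAlg.xg_commute a3 a1 _ _, CfsgLib.Chev.chevE6.toAlg.xg_commute b3 b1 _ _⟩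
    · rw [(phi_l F t).1, (phi_l F t).2]
      exact ⟨CfsgLib.Chev.chevE6.toAlg.xg_commute a4 a2 _ _, CfsgLib.Chev.chevE6.toAlg.xg_commute b4 b2 _ _⟩
  | one => simp only [map_one]; exact ⟨Commute.one_right _, Commute.one_right _⟩
  | mul x y _ _ hx hy => simp only [map_mul]; exact ⟨hx.1.mul_right hy.1, hx.2.mul_right hy.2⟩
  | inv x _ hx => simp only [map_inv]; exact ⟨hx.1.inv_right, hx.2.inv_right⟩

/-- The homomorphism from two copies of SL₂. -/
noncomputable def pp (F : Type*) [Field F] :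
    SpecialLinearGroup (Fin 2) F × SpecialLinearGroup (Fin 2) F →* GL Cfsg.Lie.chevE6.Idx F :=
  (phi0 F).noncommCoprod (phi5 F) fun P Q => commute_phi P Q

theorem pp_apply (P Q : SpecialLinearGroup (Fin 2) F) : pp F (P, Q) = phi0 F P * phi5 F Q := rfl

theorem map_phi {E : Type*} [Field E] (f : E →+* F) (Q : SpecialLinearGroup (Fin 2) E) :
    Matrix.GeneralLinearGroup.map f (phi0 E Q) = phi0 F (SpecialLinearGroup.map f Q) ∧
      Matrix.GeneralLinearGroup.map f (phi5 E Q) = phi5 F (SpecialLinearGroup.map f Q) := by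
  have hQ : Q ∈ Subgroup.closure (Set.range (RankOne.u (F := E)) ∪ Set.range RankOne.l) := by
    rw [closure_u_l]; trivial
  induction hQ using Subgroup.closure_induction with
  | mem g hg =>
    rcases hg with ⟨t, rfl⟩ | ⟨t, rfl⟩
    · rw [show SpecialLinearGroup.map f (RankOne.u t) = RankOne.u (f t) by
        ext i j
        show f ((RankOne.u t).1 i j) = _
        fin_cases i <;> fin_cases j <;> simp [RankOne.u]]
      rw [(phi_u E t).1, (phi_u E t).2, (phi_u F _).1, (phi_u F _).2]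
      exact ⟨CfsgLib.Chev.chevE6.map_root_xg f _ t, CfsgLib.Chev.chevE6.map_root_xg f _ t⟩
    · rw [show SpecialLinearGroup.map f (RankOne.l t) = RankOne.l (f t) by
        ext i j
        show f ((RankOne.l t).1 i j) = _
        fin_cases i <;> fin_cases j <;> simp [RankOne.l]]
      rw [(phi_l E t).1, (phi_l E t).2, (phi_l F _).1, (phi_l F _).2]
      exact ⟨CfsgLib.Chev.chevE6.map_root_xg f _ t, CfsgLib.Chev.chevE6.map_root_xg f _ t⟩
  | one => simp only [map_one, and_self]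
  | mul x y _ _ hx hy => simp only [map_mul, hx.1, hy.1, hx.2, hy.2, and_self]
  | inv x _ hx => simp only [map_inv, hx.1, hx.2, and_self]

variable [CharP F 2]

/-- The diagonal form of a companion matrix. -/
def dMat (w z : F) (h : z ^ 2 + w * z + 1 = 0) : SpecialLinearGroup (Fin 2) F :=
  ⟨!![z, 0; 0, w + z], by
    rw [Matrix.det_fin_two_of]
    linear_combination h - (CharTwo.two_eq_zero : (2 : F) = 0)⟩

/-- The eigenvectors of a companion matrix. -/
def gMat (w z : F) (hw : w ^ 2 = w + 1) (h : z ^ 2 + w * z + 1 = 0) : SpecialLinearGroup (Fin 2) F :=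
  ⟨!![w ^ 2, 1; w ^ 2 * z, w + z], by
    rw [Matrix.det_fin_two_of]
    linear_combination (w + 1) * hw + w * (CharTwo.two_eq_zero : (2 : F) = 0)⟩

theorem comp_eq_conj (w z : F) (hw : w ^ 2 = w + 1) (h : z ^ 2 + w * z + 1 = 0)
    (M : SpecialLinearGroup (Fin 2) F) (hM : M.1 = !![0, 1; 1, w]) :
    M = gMat w z hw h * dMat w z h * (gMat w z hw h)⁻¹ := by
  refine eq_mul_inv_iff_mul_eq.mpr (Subtype.ext ?_)
  have e2 : (2 : F) = 0 := CharTwo.two_eq_zero
  simp only [RankOne.val_mul, hM]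
  ext i j
  fin_cases i <;> fin_cases j <;> simp [gMat, dMat, Matrix.mul_apply, Fin.sum_univ_two]
  · linear_combination (w ^ 2) * h - (w ^ 2 * z ^ 2) * e2
  · linear_combination h - (z ^ 2 + w * z) * e2 - (0 : F) * hw

theorem zeta_facts {w z : F} (hw : w ^ 2 = w + 1) (h : z ^ 2 + w * z + 1 = 0) :
    z ^ 5 = 1 ∧ z ≠ 1 ∧ (w ^ 2) ^ 2 = w ^ 2 + 1 ∧ (z ^ 2) ^ 2 + w ^ 2 * z ^ 2 + 1 = 0 := by
  have e2 : (2 : F) = 0 := CharTwo.two_eq_zero
  have hw3 : w ^ 3 = 1 := by linear_combination (w + 1) * hw + w * e2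
  have hz2 : z ^ 2 = w * z + 1 := by linear_combination h - (w * z + 1) * e2
  have hz4 : z ^ 4 = z + w := by
    linear_combination (z ^ 2 + w * z + 1) * hz2 + w ^ 2 * hz2 + z * hw3 + hw + (w * z + 1) * e2
  refine ⟨?_, ?_, by linear_combination (w ^ 2 + w + 1) * hw + w * e2, ?_⟩
  · linear_combination z * hz4 + hz2 + (w * z) * e2
  · rintro rfl
    have : w = 0 := by linear_combination h - e2
    rw [this] at hw3
    simp at hw3
  · linear_combination (z ^ 2 + w * z + 1) * h - (z ^ 3 * w + z ^ 2 + w * z) * e2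

theorem phi_dMat (w z : F) (h : z ^ 2 + w * z + 1 = 0) (u : Fˣ) (hu : (u : F) = z) :
    phi0 F (dMat w z h) = CfsgLib.Chev.chevE6.hw (CfsgLib.Chev.chevE6.p (ix 0)) u ∧
      phi5 F (dMat w z h) = CfsgLib.Chev.chevE6.hw (CfsgLib.Chev.chevE6.p (ix 5)) u := by
  constructor
  · show RankOne.f _ _ = _
    rw [RankOne.f_of_zero _ (by simp [dMat]) u (by simp [dMat, hu]),
      show (dMat w z h).1 0 1 / (u : F) = 0 by simp [dMat], RankOne.x_zero, mul_one]
    rfl
  · show RankOne.f _ _ = _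
    rw [RankOne.f_of_zero _ (by simp [dMat]) u (by simp [dMat, hu]),
      show (dMat w z h).1 0 1 / (u : F) = 0 by simp [dMat], RankOne.x_zero, mul_one]
    rfl

theorem hw_conj (i : Fin Cfsg.Lie.chevE6.rank) (u : Fˣ) (r : Rt) (t : F) :
    CfsgLib.Chev.chevE6.hw (CfsgLib.Chev.chevE6.p i) u * CfsgLib.Chev.chevE6.toAlg.xg r t *
      (CfsgLib.Chev.chevE6.hw (CfsgLib.Chev.chevE6.p i) u)⁻¹ =
      CfsgLib.Chev.chevE6.toAlg.xg r (((u ^ CfsgLib.Chev.chevE6.A i r : Fˣ) : F) * t) := by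
  rw [CfsgLib.Chev.chevE6.hw_p, Alg.torus_xg, mul_inv_cancel_right, Alg.chi_cartanChar]

variable {K : Type*} [Field K] [Fintype K] [hK : Fact (Fintype.card K = 4)]

/-- The element of order five. -/
noncomputable def x5 (K : Type*) [Field K] [Fintype K] [Fact (Fintype.card K = 4)] :
    GL Cfsg.Lie.chevE6.Idx K := psi (comp (om K))

theorem eq_prodL_of_commute {T : Rt → Prop} [DecidablePred T]
    (hT : ∀ r, T r → CfsgLib.Chev.chevE6.Out (S.J (ox 3)) r) (cT : CfsgLib.Chev.chevE6.Closed T)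
    {u : GL Cfsg.Lie.chevE6.Idx K} (hu : u ∈ CfsgLib.Chev.chevE6.US K T) (huf : u ∈ (TT K).fix)
    (hc : x5 K * u = u * x5 K) :
    ∃ t : Rt → K, u = CfsgLib.Chev.chevE6.prodL (rootList T) t ∧
      ∀ r, T r → t r ^ 2 = t r ∧ (t r ≠ 0 → OrthR r) := by
  classical
  let L := AlgebraicClosure K
  let f : K →+* L := algebraMap K L
  haveI : CharP L 2 := charP_of_injective_ringHom (f := f) f.injective 2
  set w := f (om K) with hw0
  have hw : w ^ 2 = w + 1 := by rw [hw0, ← map_pow, om_sq, map_add, map_one]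
  obtain ⟨z, hz⟩ := IsAlgClosed.exists_root (Polynomial.X ^ 2 + Polynomial.C w * Polynomial.X + 1 : Polynomial L)
    (by rw [show (Polynomial.X ^ 2 + Polynomial.C w * Polynomial.X + 1 : Polynomial L).degree = 2 by
      compute_degree!]; norm_num)
  have hz' : z ^ 2 + w * z + 1 = 0 := by simpa [Polynomial.IsRoot] using hz
  obtain ⟨hz5, hz1, hw2, hz2⟩ := zeta_facts hw hz'
  have hz0 : z ≠ 0 := fun e => by rw [e] at hz5; simp at hz5
  set zu := Units.mk0 z hz0 with hzu
  have hord : orderOf zu = 5 := by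
    haveI := Fact.mk Nat.prime_five
    exact orderOf_eq_prime (Units.ext (show ((zu ^ 5 : Lˣ) : L) = 1 by rw [Units.val_pow_eq_pow_val]; exact hz5)) fun e => hz1 (congrArg Units.val e)
  set g1 := pp L (gMat w z hw hz', gMat (w ^ 2) (z ^ 2) hw2 hz2) with hg1
  set hh := pp L (dMat w z hz', dMat (w ^ 2) (z ^ 2) hz2) with hhh
  have hx : Matrix.GeneralLinearGroup.map f (x5 K) = g1 * hh * g1⁻¹ := by
    rw [x5, psi_def, map_mul, (map_phi f _).1, (map_phi f _).2, hg1, hhh, ← map_mul, ← map_inv, ← map_mul,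
      ← pp_apply]
    congr 1
    refine Prod.ext (comp_eq_conj w z hw hz' _ ?_) (comp_eq_conj _ _ hw2 hz2 _ ?_)
    · show (comp (om K)).1.map f = _
      ext i j; fin_cases i <;> fin_cases j <;> simp [comp, hw0]
    · rw [sig_comp]
      show (comp (om K ^ 2)).1.map f = _
      ext i j; fin_cases i <;> fin_cases j <;> simp [comp, hw0]
  have hconj : ∀ r t, hh * CfsgLib.Chev.chevE6.toAlg.xg r t * hh⁻¹ = CfsgLib.Chev.chevE6.toAlg.xg r
      (((zu ^ (CfsgLib.Chev.chevE6.A (ix 0) r + 2 * CfsgLib.Chev.chevE6.A (ix 5) r) : Lˣ) : L) * t) := by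
    intro r t
    rw [hhh, pp_apply, (phi_dMat w z hz' zu rfl).1, (phi_dMat (w ^ 2) (z ^ 2) hz2 (zu ^ 2) rfl).2]
    rw [show ∀ a b c : GL Cfsg.Lie.chevE6.Idx L, a * b * c * (a * b)⁻¹ = a * (b * c * b⁻¹) * a⁻¹ from
      fun a b c => by group, hw_conj, hw_conj, ← mul_assoc, ← Units.val_mul, _root_.zpow_add, _root_.zpow_mul]
    rfl
  have hg1N : g1 ∈ Subgroup.normalizer (CfsgLib.Chev.chevE6.US L (CfsgLib.Chev.chevE6.Out (S.J (ox 3))) :
      Set (GL Cfsg.Lie.chevE6.Idx L)) := by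
    rw [hg1, pp_apply]; exact mul_mem (phi_mem_normalizer _).1 (phi_mem_normalizer _).2
  set U := Matrix.GeneralLinearGroup.map f u with hU
  have hUout : U ∈ CfsgLib.Chev.chevE6.US L (CfsgLib.Chev.chevE6.Out (S.J (ox 3))) :=
    CfsgLib.Chev.chevE6.map_mem_US f (CfsgLib.Chev.chevE6.US_mono (F := K) hT hu)
  set u' := g1⁻¹ * U * g1 with hu'0
  have hu' : u' ∈ CfsgLib.Chev.chevE6.US L (CfsgLib.Chev.chevE6.Out (S.J (ox 3))) := by
    have := (Subgroup.mem_normalizer_iff.mp (inv_mem hg1N) U).mp hUout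
    rwa [inv_inv] at this
  have hcom : hh * u' * hh⁻¹ = u' := by
    have h1 := congrArg (Matrix.GeneralLinearGroup.map f) hc
    rw [map_mul, map_mul, hx, ← hU] at h1
    rw [mul_inv_eq_iff_eq_mul, hu'0]
    calc hh * (g1⁻¹ * U * g1) = g1⁻¹ * (g1 * hh * g1⁻¹ * U) * g1 := by group
      _ = g1⁻¹ * (U * (g1 * hh * g1⁻¹)) * g1 := by rw [h1]
      _ = g1⁻¹ * U * g1 * hh := by group
  have hOpos : ∀ r, CfsgLib.Chev.chevE6.Out (S.J (ox 3)) r → CfsgLib.Chev.chevE6.toTables.Pos r :=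
    fun r hr => Out.pos _ hr
  obtain ⟨s, hs⟩ := (CfsgLib.Chev.chevE6.mem_US_iff hOpos (CfsgLib.Chev.chevE6.closed_out _)).mp hu'
  have hsupp : ∀ r, CfsgLib.Chev.chevE6.Out (S.J (ox 3)) r → s r ≠ 0 → OrthR r := by
    intro r hr hs0
    rw [hs] at hcom
    have e : hh * CfsgLib.Chev.chevE6.prodL (rootList (CfsgLib.Chev.chevE6.Out (S.J (ox 3)))) s * hh⁻¹ =
        CfsgLib.Chev.chevE6.prodL (rootList (CfsgLib.Chev.chevE6.Out (S.J (ox 3)))) (fun r =>
          ((zu ^ (CfsgLib.Chev.chevE6.A (ix 0) r + 2 * CfsgLib.Chev.chevE6.A (ix 5) r) : Lˣ) : L) * s r) := by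
      rw [← MulAut.conj_apply, prodL, map_list_prod, List.map_map]
      refine congrArg List.prod (List.map_congr_left fun a _ => ?_)
      rw [Function.comp_apply, MulAut.conj_apply, hconj]
    rw [e] at hcom
    have h1 := CfsgLib.Chev.chevE6.prodL_injective (pairwise_rootList _)
      (fun a ha => hOpos a (mem_rootList.mp ha)) hcom r (mem_rootList.mpr hr)
    have h2 : zu ^ (CfsgLib.Chev.chevE6.A (ix 0) r + 2 * CfsgLib.Chev.chevE6.A (ix 5) r) = 1 :=
      Units.ext ((mul_eq_right₀ hs0).mp h1)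
    have h3 := orderOf_dvd_iff_zpow_eq_one.mpr h2
    rw [hord] at h3
    obtain ⟨h4, h5⟩ := CfsgLib.Chev.chevE6.out_iff_pos_and_not_sub.mp hr
    refine five_orth r h4 (fun e => h5 ((PJ3_iff r).mpr (Or.inl e)).2)
      (fun e => h5 ((PJ3_iff r).mpr (Or.inr e)).2) (by exact_mod_cast h3)
  have hgu : Commute g1 u' := by
    rw [hs, prodL, hg1, pp_apply]
    refine Commute.list_prod_right _ _ fun y hy => ?_
    obtain ⟨r, hr, rfl⟩ := List.mem_map.mp hy
    by_cases h0 : s r = 0
    · rw [h0, Alg.xg_zero]; exact Commute.one_right _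
    · have ho := hsupp r (mem_rootList.mp hr) h0
      exact ((phi_commute_orth ho _ _).1.symm).mul_left (phi_commute_orth ho _ _).2.symm
  have hU' : U = u' := by
    have : U = g1 * u' * g1⁻¹ := by rw [hu'0]; group
    rw [this, hgu.eq, mul_inv_cancel_right]
  have hTpos : ∀ r, T r → CfsgLib.Chev.chevE6.toTables.Pos r := fun r hr => hOpos r (hT r hr)
  obtain ⟨t, ht⟩ := (CfsgLib.Chev.chevE6.mem_US_iff hTpos cT).mp hu
  refine ⟨t, ht, fun r hr => ?_⟩
  have hts : ∀ r, T r → f (t r) = s r := by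
    intro r hr
    have e1 : CfsgLib.Chev.chevE6.prodL (rootList T) (fun r => f (t r)) =
        CfsgLib.Chev.chevE6.prodL (rootList (CfsgLib.Chev.chevE6.Out (S.J (ox 3)))) s := by
      rw [← CfsgLib.Chev.chevE6.map_prodL, ← ht, ← hU, hU', hs]
    rw [← prodL_extend _ hTpos, ← prodL_extend _ hOpos] at e1
    have := CfsgLib.Chev.chevE6.prodL_injective (pairwise_rootList _) (fun a ha => mem_rootList.mp ha) e1 r
      (mem_rootList.mpr (hTpos r hr))
    rwa [if_pos hr, if_pos (hT r hr)] at this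
  have horth : ∀ r, T r → t r ≠ 0 → OrthR r := fun r hr h0 => hsupp r (hT r hr) (by
    rw [← hts r hr]
    exact fun e => h0 (f.injective (by rw [e, map_zero])))
  refine ⟨?_, horth r hr⟩
  have e : CfsgLib.Chev.chevE6.prodL (rootList T) t = CfsgLib.Chev.chevE6.prodL (rootList T) (fun r => t r ^ 2) := by
    conv_lhs => rw [← ht, ← huf.2, ht]
    rw [prodL, (TT K).app_list_prod (fun y hy => by
      obtain ⟨a, -, rfl⟩ := List.mem_map.mp hy; exact CfsgLib.Chev.chevE6.toAlg.xg_mem_group _ _), List.map_map]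
    refine congrArg List.prod (List.map_congr_left fun a ha => ?_)
    rw [Function.comp_apply, app_xg2]
    by_cases h0 : t a = 0
    · simp [h0, Alg.xg_zero]
    · rw [orth_rho (horth a (mem_rootList.mp ha) h0)]
  exact (CfsgLib.Chev.chevE6.prodL_injective (pairwise_rootList _) (fun a ha => hTpos a (mem_rootList.mp ha)) e r
    (mem_rootList.mpr hr)).symm

/-- At most `2 ^ k` elements commute, `k` the number of orthogonal roots. -/
theorem card_commute_le {T : Rt → Prop}
    (hT : ∀ r, T r → CfsgLib.Chev.chevE6.Out (S.J (ox 3)) r) (cT : CfsgLib.Chev.chevE6.Closed T) :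
    Nat.card {u : GL Cfsg.Lie.chevE6.Idx K //
      u ∈ CfsgLib.Chev.chevE6.US K T ⊓ (TT K).fix ∧ x5 K * u = u * x5 K} ≤
      2 ^ Nat.card {r : Rt // T r ∧ OrthR r} := by
  classical
  choose t ht hsq using fun u : {u : GL Cfsg.Lie.chevE6.Idx K //
      u ∈ CfsgLib.Chev.chevE6.US K T ⊓ (TT K).fix ∧ x5 K * u = u * x5 K} =>
    eq_prodL_of_commute hT cT u.2.1.1 u.2.1.2 u.2.2
  have hinj : Function.Injective fun u (r : {r : Rt // T r ∧ OrthR r}) => decide (t u r.1 = 1) := by
    intro u v e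
    refine Subtype.ext ?_
    rw [ht u, ht v, prodL, prodL]
    refine congrArg List.prod (List.map_congr_left fun r hr => congrArg _ ?_)
    have hr' := mem_rootList.mp hr
    have h01 : ∀ w, t w r = 0 ∨ t w r = 1 := fun w => by
      have h2 := (hsq w r hr').1
      have : t w r * (t w r - 1) = 0 := by linear_combination h2
      exact (mul_eq_zero.mp this).imp id sub_eq_zero.mp
    by_cases ho : OrthR r
    · have := congrFun e ⟨r, hr', ho⟩
      simp only [decide_eq_decide] at this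
      rcases h01 u with a | a <;> rcases h01 v with b | b <;> simp [a, b] at this ⊢
    · have h0 : ∀ w, t w r = 0 := fun w => by
        by_contra h; exact ho ((hsq w r hr').2 h)
      rw [h0, h0]
  refine (Nat.card_le_card_of_injective _ hinj).trans ?_
  rw [Nat.card_fun, Nat.card_eq_fintype_card, Fintype.card_bool]

end CfsgLib.Chev.T2E6.Five
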