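/-
Counting the cosets of the minimal parabolic subgroup fixed by the element of order five.
-/
import Cfsg.Agent.Lib.TwE6Five.Fixed
import Cfsg.Agent.Lib.Chev.Twist.OrderE6

namespace CfsgLib.Chev.T2E6.Five

open Cfsg.Lie Chev Matrix

set_option linter.dupNamespace false
set_option linter.unusedSectionVars false
set_option maxRecDepth 100000

variable {K : Type*} [Field K] [Fintype K] [hK : Fact (Fintype.card K = 4)]

theorem card_Uinv2 {π : Equiv.Perm Rt} (hπ : π ∈ S.W1) :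
    Nat.card ((TT K).Uinv π) = 2 ^ S.len π := by
  have := (hgen (K := K)).card_Uinv 2 1 (card_root _ _) hπ
  rwa [pow_one] at this

theorem len_one : S.len 1 = 0 := by
  classical
  have h0 : ∀ r, ¬ CfsgLib.Chev.chevE6.Inv 1 r := fun r hr => hr.2 hr.1
  simp [Sym.len, h0]

theorem card_U2 : Nat.card ↥(Cfsg.Lie.chevE6.posUnipotent K ⊓ (TT K).fix) = 2 ^ 36 := by
  rw [← GG_eq]
  exact card_U Nat.prime_two.isPrimePow card_sq

theorem card_Bf : Nat.card ↥(Tw.Bf (TT K)) = 2 ^ 36 * 3 := by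
  have h := card_H Nat.prime_two.isPrimePow (card_sq (K := K))
  have hH : Nat.card ↥(Cfsg.Lie.chevE6.diagonalSubgroup K ⊓ (TT K).fix) = 3 := by
    rw [← GG_eq]
    change Nat.card ↥(Cfsg.Lie.chevE6.diagonalSubgroup K ⊓ twistedE6 K 2) = 3
    rw [show Nat.gcd 3 (2 + 1) = 3 from rfl] at h
    rw [show (2 - 1) ^ 4 * (2 + 1) ^ 2 = 9 from rfl] at h
    omega
  rw [Tw.Bf, Tw.card_B1, card_U2, hH]

/-- The outer orbit. -/
noncomputable abbrev o3 : Fin S.m := ox 3

theorem card_Par3 : Nat.card ↥((hgen (K := K)).Par {ox 3}) = 2 ^ 36 * 15 := by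
  classical
  show Nat.card ↥((hgen (K := K)).Par {o3}) = 2 ^ 36 * 15
  haveI : Fintype (S.Wsub ({o3} : Set (Fin S.m))) := Fintype.ofFinite _
  rw [(hgen (K := K)).card_Par hne, card_Bf]
  have e : (Finset.univ : Finset (S.Wsub ({o3} : Set (Fin S.m)))).map ⟨Subtype.val, Subtype.val_injective⟩ =
      {1, S.w o3} := by
    ext π
    simp only [Finset.mem_map, Finset.mem_univ, true_and, Function.Embedding.coeFn_mk, Finset.mem_insert,
      Finset.mem_singleton]
    constructor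
    · rintro ⟨⟨x, hx⟩, rfl⟩
      exact Tw.Wsub_singleton _ hx
    · rintro (rfl | rfl)
      · exact ⟨1, rfl⟩
      · exact ⟨⟨_, Subgroup.subset_closure ⟨_, rfl, rfl⟩⟩, rfl⟩
  have hs : ∑ π : S.Wsub ({o3} : Set (Fin S.m)), Nat.card ((TT K).Uinv π.1) =
      ∑ x ∈ ({1, S.w o3} : Finset (Equiv.Perm Rt)), Nat.card ((TT K).Uinv x) := by
    rw [← e, Finset.sum_map]; rfl
  rw [hs, Finset.sum_pair (Ne.symm ((hgen (K := K)).w_ne_one _)), card_Uinv2 (one_mem _),
    card_Uinv2 (S.w_mem_W1 _), len_one, cnt_eq symOKE6,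
    show WCert.cnt symE6 Cfsg.Lie.chevE6 o3.val = 2 by decide +kernel]
  norm_num

variable (K) in
/-- The fixed part of the unipotent radical. -/
noncomputable def radR : Subgroup (GL Cfsg.Lie.chevE6.Idx K) :=
  CfsgLib.Chev.chevE6.US K (CfsgLib.Chev.chevE6.Out (S.J (ox 3))) ⊓ (TT K).fix

theorem radR_le_Bf : radR K ≤ Tw.Bf (TT K) := by
  intro r hr
  refine Subgroup.mem_inf.mpr ⟨Subgroup.mem_sup_left ?_, hr.2⟩
  rw [CfsgLib.Chev.chevE6.posUnipotent_eq_US]
  exact CfsgLib.Chev.chevE6.US_mono (F := K) (fun s hs => Out.pos _ hs) hr.1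

theorem card_radR : Nat.card ↥(radR K) = 2 ^ 34 := by
  set U3 := CfsgLib.Chev.chevE6.US K (S.PJ (ox 3)) ⊓ (TT K).fix
  have hle : ∀ y ∈ radR K, ∀ x ∈ U3, y * x ∈ Cfsg.Lie.chevE6.posUnipotent K ⊓ (TT K).fix := by
    intro y hy x hx
    refine Subgroup.mem_inf.mpr ⟨?_, mul_mem hy.2 hx.2⟩
    rw [CfsgLib.Chev.chevE6.posUnipotent_eq_US]
    exact mul_mem (CfsgLib.Chev.chevE6.US_mono (F := K) (fun s hs => Out.pos _ hs) hy.1)
      (CfsgLib.Chev.chevE6.US_mono (F := K) (fun s hs => hs.1) hx.1)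
  have e : Nat.card ↥(radR K) * Nat.card ↥U3 = Nat.card ↥(Cfsg.Lie.chevE6.posUnipotent K ⊓ (TT K).fix) := by
    rw [← Nat.card_prod]
    refine Nat.card_congr (Equiv.ofBijective (fun p => ⟨p.1.1 * p.2.1, hle _ p.1.2 _ p.2.2⟩) ⟨?_, ?_⟩)
    · rintro ⟨⟨y, hy⟩, ⟨x, hx⟩⟩ ⟨⟨y', hy'⟩, ⟨x', hx'⟩⟩ ee
      obtain ⟨rfl, rfl⟩ := CfsgLib.Chev.chevE6.US_split_unique (T := CfsgLib.Chev.chevE6.Out (S.J (ox 3)))
        (U := S.PJ (ox 3)) (fun r hr => Out.pos _ hr) (fun r hr => hr.1) (CfsgLib.Chev.chevE6.closed_out _)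
        (S.closed_PJ _) (fun r hr hr' => (CfsgLib.Chev.chevE6.out_iff_pos_and_not_sub.mp hr).2 hr'.2)
        hy.1 hy'.1 hx.1 hx'.1 (congrArg Subtype.val ee)
      rfl
    · rintro ⟨v, hv⟩
      obtain ⟨y, hy, x, hx, e⟩ := (hgen (K := K)).split_U (ox 3) hv
      exact ⟨⟨⟨y, hy⟩, ⟨x, hx⟩⟩, Subtype.ext e.symm⟩
  have h3 : Nat.card ↥U3 = 2 ^ 2 := by
    have := card_root Nat.prime_two.isPrimePow (card_sq (K := K)) (ox 3)
    rw [pow_one, cnt_eq symOKE6, show WCert.cnt symE6 Cfsg.Lie.chevE6 (ox 3).val = 2 by decide +kernel] at this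
    exact this
  rw [h3, card_U2] at e
  omega

/-! ### The element -/

theorem x5_mem_Lev : x5 K ∈ Tw.Lev (TT K) (ox 3) := psi_mem_Lev _

theorem x5_mem_fix : x5 K ∈ (TT K).fix := Lev_le_fix _ x5_mem_Lev

/-- The square of the companion matrix. -/
def comp2 (t : K) (h : t ^ 2 = t + 1) : SpecialLinearGroup (Fin 2) K :=
  ⟨!![1, t; t, t], by
    rw [Matrix.det_fin_two_of]; linear_combination -h - (CharTwo.two_eq_zero : (2 : K) = 0)⟩

/-- The fourth power of the companion matrix. -/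
def comp4 (t : K) : SpecialLinearGroup (Fin 2) K :=
  ⟨!![t, 1; 1, 0], by
    rw [Matrix.det_fin_two_of]; linear_combination -(CharTwo.two_eq_zero : (2 : K) = 0)⟩

theorem comp_om_pow : (comp (om K)) ^ 5 = 1 := by
  have e2 : (2 : K) = 0 := CharTwo.two_eq_zero
  have hw := om_sq (K := K)
  have h2 : (comp (om K)) ^ 2 = comp2 (om K) hw := by
    rw [sq]
    ext i j
    rw [RankOne.val_mul]
    fin_cases i <;> fin_cases j <;> simp [comp, comp2, Matrix.mul_apply, Fin.sum_univ_two]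
    linear_combination hw + e2
  have h4 : (comp (om K)) ^ 4 = comp4 (om K) := by
    rw [show 4 = 2 + 2 from rfl, pow_add, h2]
    ext i j
    rw [RankOne.val_mul]
    fin_cases i <;> fin_cases j <;> simp [comp2, comp4, Matrix.mul_apply, Fin.sum_univ_two]
    · linear_combination hw + e2
    · linear_combination hw + om K * e2
    · linear_combination hw + om K * e2
    · linear_combination (om K ^ 2) * e2
  rw [pow_succ, h4]
  ext i j
  rw [RankOne.val_mul]
  fin_cases i <;> fin_cases j <;>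
    simp [comp, comp4, Matrix.mul_apply, Fin.sum_univ_two, CharTwo.add_self_eq_zero]

theorem psi_injective : Function.Injective (psi (K := K)) := by
  rw [injective_iff_map_eq_one]
  intro Q hQ
  exact eq_one_of_psi_mem_out (by rw [hQ]; exact one_mem _)

theorem orderOf_x5 : orderOf (x5 K) = 5 := by
  haveI := Fact.mk Nat.prime_five
  refine orderOf_eq_prime (by rw [x5, ← map_pow, comp_om_pow, map_one]) fun e => ?_
  have h := psi_injective (e.trans (map_one psi).symm)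
  simpa [comp] using congrArg (fun Q : SpecialLinearGroup (Fin 2) K => Q.1 1 0) h

/-- A family of twenty-four elements of order five. -/
noncomputable def nMatY (i : Fin 2 × K × Kˣ) : SpecialLinearGroup (Fin 2) K :=
  let t : K := if i.1 = 0 then om K else om K ^ 2
  ⟨!![i.2.1, (i.2.1 * (t - i.2.1) - 1) / i.2.2; (i.2.2 : K), t - i.2.1], by
    rw [Matrix.det_fin_two_of, div_mul_cancel₀ _ i.2.2.ne_zero]; ring⟩

theorem nMatY_injective : Function.Injective (nMatY (K := K)) := by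
  rintro ⟨k, a, c⟩ ⟨k', a', c'⟩ e
  have ea : a = a' := congrArg (fun Q : SpecialLinearGroup (Fin 2) K => Q.1 0 0) e
  have ec : (c : K) = c' := congrArg (fun Q : SpecialLinearGroup (Fin 2) K => Q.1 1 0) e
  have et := congrArg (fun Q : SpecialLinearGroup (Fin 2) K => Q.1 1 1) e
  simp only [nMatY, Matrix.of_apply, Matrix.cons_val_one, Matrix.cons_val_zero, Matrix.cons_val', Matrix.empty_val',
    Matrix.cons_val_fin_one] at et
  rw [← ea, sub_left_inj] at et
  obtain rfl := Units.ext ec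
  have hne : om K ≠ om K ^ 2 := fun h => by
    rw [om_sq] at h; exact one_ne_zero (left_eq_add.mp h)
  obtain rfl : k = k' := by
    revert et
    fin_cases k <;> fin_cases k' <;> simp [hne, Ne.symm hne]
  rw [ea]

/-- The exponent of an element of the family. -/
def yExp (i : Fin 2 × K × Kˣ) : ℕ := if i.1 = 0 then 1 else 2

theorem exists_conj_x5_pow (i : Fin 2 × K × Kˣ) :
    ∃ Q, psi (nMatY i) = psi Q * x5 K ^ yExp i * (psi Q)⁻¹ := by
  obtain ⟨Q, hQ⟩ := exists_conj_comp (nMatY i) (by simp [nMatY])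
  have ht : (nMatY i).1 0 0 + (nMatY i).1 1 1 = if i.1 = 0 then om K else om K ^ 2 := by
    simp [nMatY]
  rw [ht] at hQ
  rcases eq_or_ne i.1 0 with h | h
  · rw [if_pos h] at hQ
    exact ⟨Q, by rw [← hQ, map_mul, map_mul, map_inv, yExp, if_pos h, pow_one, x5]⟩
  · rw [if_neg h] at hQ
    have hsq : (comp (om K) ^ 2).1 1 0 = om K ∧
        (comp (om K) ^ 2).1 0 0 + (comp (om K) ^ 2).1 1 1 = om K ^ 2 := by
      rw [sq, RankOne.val_mul]
      constructor
      · simp [comp, Matrix.mul_apply, Fin.sum_univ_two]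
      · simp [comp, Matrix.mul_apply, Fin.sum_univ_two]
        linear_combination (0 : K) + (CharTwo.two_eq_zero : (2 : K) = 0)
    obtain ⟨R, hR⟩ := exists_conj_comp (comp (om K) ^ 2) (by rw [hsq.1]; exact om_ne.1)
    rw [hsq.2] at hR
    refine ⟨Q * R⁻¹, ?_⟩
    rw [yExp, if_neg h, x5, ← map_pow, ← hR, ← hQ]
    simp only [map_mul, map_inv]
    group

theorem commute_pow_iff {u : GL Cfsg.Lie.chevE6.Idx K} (i : Fin 2 × K × Kˣ) :
    Commute (x5 K ^ yExp i) u → x5 K * u = u * x5 K := by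
  intro h
  rcases eq_or_ne i.1 0 with e | e
  · rw [yExp, if_pos e, pow_one] at h; exact h.eq
  · rw [yExp, if_neg e] at h
    have h3 := h.pow_left 3
    have e5 : (x5 K ^ 2) ^ 3 = x5 K := by
      rw [← pow_mul, show 2 * 3 = 5 + 1 from rfl, pow_succ]
      conv_lhs => rw [show (5 : ℕ) = orderOf (x5 K) from orderOf_x5.symm, pow_orderOf_eq_one, one_mul]
    rw [e5] at h3
    exact h3.eq

theorem exists_swap : ∃ n : GL Cfsg.Lie.chevE6.Idx K, ∃ π, RepOne n π ∧
    π (CfsgLib.Chev.chevE6.p (ix 0)) = CfsgLib.Chev.chevE6.p (ix 5) ∧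
    π (CfsgLib.Chev.chevE6.p (ix 5)) = CfsgLib.Chev.chevE6.p (ix 0) := by
  obtain ⟨n, hn⟩ := exists_repOne (K := K) (wordPerm_mem_W1 wordSwap)
  refine ⟨n, _, hn, Fin.ext ?_, Fin.ext ?_⟩
  · rw [wordPerm_val, p_vals.1, p_vals.2.1]; exact swap_vals.1
  · rw [wordPerm_val, p_vals.2.1, p_vals.1]; exact swap_vals.2

theorem exists_conj_sq : ∃ g ∈ (TT K).fix, g⁻¹ * x5 K * g = x5 K ^ 2 := by
  obtain ⟨n, π, hn, h0, h5⟩ := exists_swap (K := K)
  obtain ⟨R, hR⟩ := exists_conj_comp (comp (om K) ^ 2) (by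
    rw [sq, RankOne.val_mul]; simp [comp, Matrix.mul_apply, Fin.sum_univ_two]; exact om_ne.1)
  have ht : (comp (om K) ^ 2).1 0 0 + (comp (om K) ^ 2).1 1 1 = om K ^ 2 := by
    rw [sq, RankOne.val_mul]
    simp [comp, Matrix.mul_apply, Fin.sum_univ_two]
    linear_combination (0 : K) + (CharTwo.two_eq_zero : (2 : K) = 0)
  rw [ht] at hR
  refine ⟨n⁻¹ * (psi R)⁻¹, mul_mem (Subgroup.inv_mem _ hn.1.fx) (Subgroup.inv_mem _ (Lev_le_fix _ (psi_mem_Lev R))), ?_⟩
  have hs : n * x5 K * n⁻¹ = psi (comp (om K ^ 2)) := by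
    rw [x5, psi_swap hn h0 h5, sig_comp]
  calc (n⁻¹ * (psi R)⁻¹)⁻¹ * x5 K * (n⁻¹ * (psi R)⁻¹) = psi R * (n * x5 K * n⁻¹) * (psi R)⁻¹ := by group
    _ = x5 K ^ 2 := by rw [hs, ← map_inv, ← map_mul, ← map_mul, hR, map_pow, x5]

theorem exists_conj_Y (i : Fin 2 × K × Kˣ) : ∃ g ∈ (TT K).fix, g⁻¹ * x5 K * g = psi (nMatY i) := by
  obtain ⟨Q, hQ⟩ := exists_conj_x5_pow i
  have hQf := Lev_le_fix _ (psi_mem_Lev (K := K) Q)
  rcases eq_or_ne i.1 0 with e | e
  · refine ⟨(psi Q)⁻¹, Subgroup.inv_mem _ hQf, ?_⟩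
    rw [hQ, yExp, if_pos e, pow_one]; group
  · obtain ⟨g, hg, hg2⟩ := exists_conj_sq (K := K)
    refine ⟨g * (psi Q)⁻¹, mul_mem hg (Subgroup.inv_mem _ hQf), ?_⟩
    rw [hQ, yExp, if_neg e, ← hg2]; group

theorem card_orth_out : Nat.card {r : Rt // CfsgLib.Chev.chevE6.Out (S.J (ox 3)) r ∧ OrthR r} ≤ 6 := by
  classical
  rw [Nat.card_eq_fintype_card, Fintype.card_subtype]
  calc _ ≤ (orthKs.image rt).card := Finset.card_le_card fun r hr => by
        obtain ⟨h1, h2⟩ := (Finset.mem_filter.mp hr).2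
        obtain ⟨k, hk, e⟩ := orthKs_spec.2 r h2 (Out.pos _ h1)
        exact Finset.mem_image.mpr ⟨k, hk, e⟩
    _ ≤ orthKs.card := Finset.card_image_le
    _ = 6 := rfl

theorem card_centralizer_radR (i : Fin 2 × K × Kˣ) :
    Nat.card {r : GL Cfsg.Lie.chevE6.Idx K // r ∈ radR K ∧ psi (nMatY i) * r = r * psi (nMatY i)} ≤ 64 := by
  obtain ⟨Q, hQ⟩ := exists_conj_x5_pow i
  set l := psi Q
  have hl := psi_mem_Lev (K := K) Q
  have hmem : ∀ r : {r : GL Cfsg.Lie.chevE6.Idx K // r ∈ radR K ∧ psi (nMatY i) * r = r * psi (nMatY i)},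
      l⁻¹ * r.1 * l ∈ radR K ∧ x5 K * (l⁻¹ * r.1 * l) = (l⁻¹ * r.1 * l) * x5 K := fun r => by
    refine ⟨Subgroup.mem_inf.mpr ⟨?_, mul_mem (mul_mem (Subgroup.inv_mem _ (Lev_le_fix _ hl)) r.2.1.2)
      (Lev_le_fix _ hl)⟩, commute_pow_iff i ?_⟩
    · have := (Subgroup.mem_normalizer_iff.mp (Subgroup.inv_mem _ (psi_mem_normalizer Q)) r.1).mp r.2.1.1
      rwa [inv_inv] at this
    · have h : l * x5 K ^ yExp i * l⁻¹ * (r.1 : GL Cfsg.Lie.chevE6.Idx K) = r.1 * (l * x5 K ^ yExp i * l⁻¹) :=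
        hQ ▸ r.2.2
      show x5 K ^ yExp i * (l⁻¹ * r.1 * l) = l⁻¹ * r.1 * l * x5 K ^ yExp i
      calc x5 K ^ yExp i * (l⁻¹ * r.1 * l) = l⁻¹ * (l * x5 K ^ yExp i * l⁻¹ * r.1) * l := by group
        _ = l⁻¹ * (r.1 * (l * x5 K ^ yExp i * l⁻¹)) * l := by rw [h]
        _ = _ := by group
  refine le_trans (Nat.card_le_card_of_injective (β := {u : GL Cfsg.Lie.chevE6.Idx K //
      u ∈ CfsgLib.Chev.chevE6.US K (CfsgLib.Chev.chevE6.Out (S.J (ox 3))) ⊓ (TT K).fix ∧
        x5 K * u = u * x5 K}) (fun r => ⟨l⁻¹ * r.1 * l, hmem r⟩) ?_) ?_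
  · intro r r' e
    have := congrArg Subtype.val e
    exact Subtype.ext (mul_left_cancel (mul_right_cancel this))
  · refine (card_commute_le (fun r hr => hr) (CfsgLib.Chev.chevE6.closed_out _)).trans ?_
    exact (Nat.pow_le_pow_right (by norm_num) card_orth_out).trans (by norm_num)

theorem not_conj_mem_Bf {y q : GL Cfsg.Lie.chevE6.Idx K} (hy : orderOf y = 5) :
    q⁻¹ * y * q ∉ Tw.Bf (TT K) := by
  intro h
  have e : orderOf (q⁻¹ * y * q) = 5 := by
    rw [← hy, show q⁻¹ * y * q = MulAut.conj q⁻¹ y by simp [MulAut.conj_apply]]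
    exact MulEquiv.orderOf_eq _ _
  have hd := Subgroup.orderOf_dvd_natCard (s := Tw.Bf (TT K)) h
  rw [e, card_Bf] at hd
  norm_num at hd

variable (K) in
/-- The centralizer of the element of order five. -/
noncomputable def cent5 : Subgroup (GL Cfsg.Lie.chevE6.Idx K) :=
  (TT K).fix ⊓ Subgroup.centralizer {x5 K}

variable (K) in
/-- The elements conjugating the element of order five into the parabolic subgroup. -/
def conjSet : Set (GL Cfsg.Lie.chevE6.Idx K) :=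
  {g | g ∈ (TT K).fix ∧ g⁻¹ * x5 K * g ∈ (hgen (K := K)).Par {ox 3}}

theorem conjSet_le : Nat.card ↥(conjSet K) ≤ 630 * Nat.card ↥((hgen (K := K)).Par {ox 3}) := by
  classical
  haveI : Fintype {π : S.W1 // S.Stab (ox 3) π.1} := Fintype.ofFinite _
  refine ((hgen (K := K)).card_conj_le hne x5_mem_Lev fun q _ => not_conj_mem_Bf orderOf_x5).trans ?_
  refine Nat.mul_le_mul_right _ ((Finset.sum_le_sum fun π _ => ?_).trans sum_stab_le)
  refine (card_commute_le (T := CfsgLib.Chev.chevE6.Inv π.1.1)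
    (fun r hr => (π.2.out_of_inv π.1.2 hr).1) (CfsgLib.Chev.chevE6.closed_inv (S.mem_W1.mp π.1.2).1)).trans ?_
  exact le_of_eq rfl

theorem exists_count : ∃ m, 24 * 2 ^ 34 ≤ 64 * m ∧
    Nat.card ↥(cent5 K) * m ≤ Nat.card ↥(conjSet K) := by
  classical
  haveI : Fintype (GL Cfsg.Lie.chevE6.Idx K) := Fintype.ofFinite _
  let f : (Fin 2 × K × Kˣ) × ↥(radR K) → GL Cfsg.Lie.chevE6.Idx K :=
    fun p => (p.2 : GL Cfsg.Lie.chevE6.Idx K) * psi (nMatY p.1) * (p.2 : GL Cfsg.Lie.chevE6.Idx K)⁻¹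
  haveI : Fintype ↥(radR K) := Fintype.ofFinite _
  set Ks := Finset.univ.image f with hKs
  refine ⟨Ks.card, ?_, ?_⟩
  · have h := Finset.card_le_mul_card_image (s := (Finset.univ : Finset ((Fin 2 × K × Kˣ) × ↥(radR K))))
      (f := f) 64 (fun b hb => ?_)
    · rw [Finset.card_univ, Fintype.card_prod, Fintype.card_prod, Fintype.card_prod, Fintype.card_fin,
        Fintype.card_units, hK.out, ← Nat.card_eq_fintype_card (α := ↥(radR K)), card_radR] at h
      linarith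
    · obtain ⟨⟨i, r⟩, -, rfl⟩ := Finset.mem_image.mp hb
      have key : ∀ p, f p = f (i, r) → p.1 = i ∧
          psi (nMatY i) * ((r : GL Cfsg.Lie.chevE6.Idx K)⁻¹ * p.2) =
            ((r : GL Cfsg.Lie.chevE6.Idx K)⁻¹ * p.2) * psi (nMatY i) := by
        rintro ⟨i', r'⟩ e
        simp only [f] at e
        set v := (r : GL Cfsg.Lie.chevE6.Idx K)⁻¹ * r' with hv
        have hvR : v ∈ radR K := mul_mem (Subgroup.inv_mem _ r.2) r'.2
        have e' : psi (nMatY i) = v * psi (nMatY i') * v⁻¹ := by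
          calc psi (nMatY i) = (r : GL Cfsg.Lie.chevE6.Idx K)⁻¹ *
                ((r : GL Cfsg.Lie.chevE6.Idx K) * psi (nMatY i) * (r : GL Cfsg.Lie.chevE6.Idx K)⁻¹) * r := by group
            _ = _ := by rw [← e, hv]; group
        have h1 : psi ((nMatY i')⁻¹ * nMatY i) ∈
            CfsgLib.Chev.chevE6.US K (CfsgLib.Chev.chevE6.Out (S.J (ox 3))) := by
          rw [map_mul, map_inv, e']
          have hm := (Subgroup.mem_normalizer_iff.mp (Subgroup.inv_mem _ (psi_mem_normalizer (nMatY i'))) v).mp hvR.1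
          rw [inv_inv] at hm
          have := mul_mem hm (Subgroup.inv_mem _ hvR.1)
          simpa [mul_assoc] using this
        have h2 := eq_one_of_psi_mem_out h1
        rw [inv_mul_eq_one] at h2
        obtain rfl := nMatY_injective h2
        refine ⟨rfl, ?_⟩
        conv_lhs => rw [e']
        group
      rw [← Fintype.card_subtype, ← Nat.card_eq_fintype_card]
      refine le_trans (Nat.card_le_card_of_injective (β := {v : GL Cfsg.Lie.chevE6.Idx K //
        v ∈ radR K ∧ psi (nMatY i) * v = v * psi (nMatY i)})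
        (fun p => ⟨(r : GL Cfsg.Lie.chevE6.Idx K)⁻¹ * p.1.2, mul_mem (Subgroup.inv_mem _ r.2) p.1.2.2,
          (key p.1 p.2).2⟩) ?_) (card_centralizer_radR i)
      rintro ⟨⟨i1, r1⟩, h1⟩ ⟨⟨i2, r2⟩, h2⟩ e
      have e' := congrArg Subtype.val e
      obtain rfl : r1 = r2 := Subtype.ext (mul_left_cancel e')
      obtain rfl := (key _ h1).1
      obtain rfl := (key _ h2).1
      rfl
  · have hg : ∀ k : Ks, ∃ g ∈ (TT K).fix, g⁻¹ * x5 K * g = k.1 ∧ k.1 ∈ (hgen (K := K)).Par {ox 3} := by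
      rintro ⟨k, hk⟩
      obtain ⟨⟨i, r⟩, -, rfl⟩ := Finset.mem_image.mp hk
      obtain ⟨g, hg, hg'⟩ := exists_conj_Y i
      have hrP := (hgen (K := K)).Bf_le_Par {ox 3} (radR_le_Bf r.2)
      refine ⟨g * (r : GL Cfsg.Lie.chevE6.Idx K)⁻¹, mul_mem hg (Subgroup.inv_mem _ r.2.2), ?_,
        mul_mem (mul_mem hrP ((hgen (K := K)).Lev_le_Par _ (psi_mem_Lev _))) (Subgroup.inv_mem _ hrP)⟩
      show _ = (r : GL Cfsg.Lie.chevE6.Idx K) * psi (nMatY i) * (r : GL Cfsg.Lie.chevE6.Idx K)⁻¹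
      rw [← hg']; group
    choose g hgf hgc hgP using hg
    have hcx : ∀ (c : ↥(cent5 K)) (k : Ks), ((c : GL Cfsg.Lie.chevE6.Idx K) * g k)⁻¹ * x5 K *
        ((c : GL Cfsg.Lie.chevE6.Idx K) * g k) = k.1 := fun c k => by
      have hc : (c : GL Cfsg.Lie.chevE6.Idx K) * x5 K = x5 K * c :=
        (Subgroup.mem_centralizer_singleton_iff.mp c.2.2)
      rw [← hgc k, show ((c : GL Cfsg.Lie.chevE6.Idx K) * g k)⁻¹ * x5 K * (c * g k) =
        (g k)⁻¹ * ((c : GL Cfsg.Lie.chevE6.Idx K)⁻¹ * (x5 K * c)) * g k by group, ← hc, inv_mul_cancel_left]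
    rw [← Nat.card_eq_finsetCard, ← Nat.card_prod]
    refine Nat.card_le_card_of_injective (fun p => ⟨(p.1 : GL Cfsg.Lie.chevE6.Idx K) * g p.2,
      mul_mem p.1.2.1 (hgf p.2), by rw [hcx]; exact hgP p.2⟩) ?_
    rintro ⟨c, k⟩ ⟨c', k'⟩ e
    have e' : (c : GL Cfsg.Lie.chevE6.Idx K) * g k = c' * g k' := congrArg Subtype.val e
    obtain rfl : k = k' := Subtype.ext (by rw [← hcx c k, ← hcx c' k', e'])
    obtain rfl : c = c' := Subtype.ext (mul_right_cancel e')
    rfl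

theorem card_cent5_le : Nat.card ↥(cent5 K) ≤ 100800 := by
  obtain ⟨m, h1, h2⟩ := exists_count (K := K)
  have h3 := conjSet_le (K := K)
  rw [card_Par3] at h3
  by_contra hc
  have : 100801 * m ≤ Nat.card ↥(cent5 K) * m := Nat.mul_le_mul_right _ (by omega)
  omega

theorem card_conjSet_of_le (h : 100800 ≤ Nat.card ↥(cent5 K)) :
    Nat.card ↥(conjSet K) = 630 * Nat.card ↥((hgen (K := K)).Par {ox 3}) := by
  obtain ⟨m, h1, h2⟩ := exists_count (K := K)
  refine le_antisymm conjSet_le ?_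
  rw [card_Par3]
  have : 100800 * m ≤ Nat.card ↥(cent5 K) * m := Nat.mul_le_mul_right _ h
  omega

end CfsgLib.Chev.T2E6.Five
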