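/-
The centralizer of the element of order five.
-/
import Cfsg.Agent.Lib.TwE6Five.Count
import Cfsg.Agent.Lib.SmallSimple.GL4A8

namespace CfsgLib.Chev.T2E6.Five

open Cfsg.Lie Chev Matrix

set_option linter.dupNamespace false
set_option linter.unusedSectionVars false
set_option maxRecDepth 100000

/-- Four roots spanning a natural module of the orthogonal subsystem. -/
def oList : List ℕ := [3, 37, 40, 48]

theorem oList_lt : ∀ i : Fin 4, oList.getD i.val 0 < Cfsg.Lie.chevE6.nroots := by decide +kernel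

/-- The four roots. -/
def oRt (i : Fin 4) : Rt := ⟨oList.getD i.val 0, oList_lt i⟩

theorem oRt_injective : Function.Injective oRt := by decide +kernel

theorem X_invariant : ∀ r : Rt, OrthR r → ∀ j : Fin 4, ∀ y : Cfsg.Lie.chevE6.Idx,
    (∀ i : Fin 4, y ≠ Sum.inr (oRt i)) →
      CfsgLib.Chev.chevE6.toSys.X ℤ r 1 y (Sum.inr (oRt j)) = 0 := by decide +kernel

/-- The roots of the transvections. -/
def trList : List (List ℕ) := [[0, 2, 1, 0], [69, 0, 32, 24], [70, 39, 0, 25], [71, 47, 46, 0]]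

theorem trList_lt : ∀ i j : Fin 4, (trList.getD i.val []).getD j.val 0 < Cfsg.Lie.chevE6.nroots := by
  decide +kernel

/-- The root of a transvection. -/
def trRoot (i j : Fin 4) : Rt := ⟨(trList.getD i.val []).getD j.val 0, trList_lt i j⟩

theorem trRoot_orth : ∀ i j : Fin 4, i ≠ j → OrthR (trRoot i j) := by decide +kernel

theorem X_block' : ∀ i j : Fin 4, i ≠ j → ∀ kl : Fin 4 × Fin 4,
    ((CfsgLib.Chev.chevE6.toSys.X ℤ (trRoot i j) 1 (Sum.inr (oRt kl.1)) (Sum.inr (oRt kl.2)) : ℤ) : ZMod 2) =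
      Matrix.transvection i j (1 : ZMod 2) kl.1 kl.2 := by decide +kernel

theorem X_block (i j k l : Fin 4) (h : i ≠ j) :
    ((CfsgLib.Chev.chevE6.toSys.X ℤ (trRoot i j) 1 (Sum.inr (oRt k)) (Sum.inr (oRt l)) : ℤ) : ZMod 2) =
      Matrix.transvection i j (1 : ZMod 2) k l := X_block' i j h (k, l)

theorem X_transvection (i j : Fin 4) (h : i ≠ j) : ∃ r : Rt, OrthR r ∧ ∀ k l : Fin 4,
    ((CfsgLib.Chev.chevE6.toSys.X ℤ r 1 (Sum.inr (oRt k)) (Sum.inr (oRt l)) : ℤ) : ZMod 2) =
      Matrix.transvection i j (1 : ZMod 2) k l :=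
  ⟨trRoot i j, trRoot_orth i j h, fun k l => X_block i j k l h⟩

variable {K : Type*} [Field K] [Fintype K] [hK : Fact (Fintype.card K = 4)]

variable (K) in
/-- The subgroup of the orthogonal roots. -/
noncomputable def dd : Subgroup (GL Cfsg.Lie.chevE6.Idx K) :=
  Subgroup.closure {g | ∃ r : Rt, OrthR r ∧ g = CfsgLib.Chev.chevE6.toAlg.xg r (1 : K)}

theorem dd_le_fix : dd K ≤ (TT K).fix := by
  rw [dd, Subgroup.closure_le]
  rintro _ ⟨r, hr, rfl⟩
  exact ⟨CfsgLib.Chev.chevE6.toAlg.xg_mem_group _ _, by rw [app_xg2, orth_rho hr, one_pow]⟩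

theorem dd_commute {d : GL Cfsg.Lie.chevE6.Idx K} (hd : d ∈ dd K) (Q : SpecialLinearGroup (Fin 2) K) :
    Commute d (psi Q) := by
  induction hd using Subgroup.closure_induction with
  | mem g hg =>
    obtain ⟨r, hr, rfl⟩ := hg
    exact (phi_commute_orth hr _ _).1.mul_right (phi_commute_orth hr _ _).2
  | one => exact Commute.one_left _
  | mul x y _ _ hx hy => exact hx.mul_left hy
  | inv x _ hx => exact hx.inv_left

/-- The invariance of the span of the four roots. -/
def Keeps (g : GL Cfsg.Lie.chevE6.Idx K) : Prop :=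
  ∀ j : Fin 4, ∀ y : Cfsg.Lie.chevE6.Idx, (∀ i : Fin 4, y ≠ Sum.inr (oRt i)) →
    (g : Matrix Cfsg.Lie.chevE6.Idx Cfsg.Lie.chevE6.Idx K) y (Sum.inr (oRt j)) = 0

/-- The block of the four roots. -/
def res (g : GL Cfsg.Lie.chevE6.Idx K) : Matrix (Fin 4) (Fin 4) K :=
  (g : Matrix Cfsg.Lie.chevE6.Idx Cfsg.Lie.chevE6.Idx K).submatrix (fun i => Sum.inr (oRt i))
    (fun i => Sum.inr (oRt i))

theorem sum_keeps {h : GL Cfsg.Lie.chevE6.Idx K} (hh : Keeps h) (v : Cfsg.Lie.chevE6.Idx → K) (j : Fin 4) :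
    ∑ y, v y * (h : Matrix Cfsg.Lie.chevE6.Idx Cfsg.Lie.chevE6.Idx K) y (Sum.inr (oRt j)) =
      ∑ i, v (Sum.inr (oRt i)) *
        (h : Matrix Cfsg.Lie.chevE6.Idx Cfsg.Lie.chevE6.Idx K) (Sum.inr (oRt i)) (Sum.inr (oRt j)) := by
  classical
  rw [← Finset.sum_image (g := fun i => (Sum.inr (oRt i) : Cfsg.Lie.chevE6.Idx))
    (f := fun y => v y * (h : Matrix Cfsg.Lie.chevE6.Idx Cfsg.Lie.chevE6.Idx K) y (Sum.inr (oRt j)))
    (fun a _ b _ e => oRt_injective (Sum.inr_injective e))]
  refine (Finset.sum_subset (Finset.subset_univ _) fun y _ hy => ?_).symm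
  rw [hh j y fun i e => hy (Finset.mem_image.mpr ⟨i, Finset.mem_univ _, e.symm⟩), mul_zero]

theorem keeps_mul {g h : GL Cfsg.Lie.chevE6.Idx K} (hg : Keeps g) (hh : Keeps h) : Keeps (g * h) := by
  intro j y hy
  rw [Units.val_mul, Matrix.mul_apply, sum_keeps hh]
  exact Finset.sum_eq_zero fun i _ => by rw [hg i y hy, zero_mul]

theorem res_mul (g : GL Cfsg.Lie.chevE6.Idx K) {h : GL Cfsg.Lie.chevE6.Idx K} (hh : Keeps h) :
    res (g * h) = res g * res h := by
  ext i j
  rw [res, Matrix.submatrix_apply, Units.val_mul, Matrix.mul_apply, sum_keeps hh, Matrix.mul_apply]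
  rfl

theorem keeps_one : Keeps (1 : GL Cfsg.Lie.chevE6.Idx K) := fun j y hy => by
  rw [Units.val_one, Matrix.one_apply_ne (hy j)]

theorem res_one : res (1 : GL Cfsg.Lie.chevE6.Idx K) = 1 := by
  rw [res, Units.val_one]
  exact Matrix.submatrix_one _ fun a b e => oRt_injective (Sum.inr_injective e)

theorem xg_entry (r : Rt) (a b : Cfsg.Lie.chevE6.Idx) :
    (CfsgLib.Chev.chevE6.toAlg.xg r (1 : K) : Matrix Cfsg.Lie.chevE6.Idx Cfsg.Lie.chevE6.Idx K) a b =
      ((CfsgLib.Chev.chevE6.toSys.X ℤ r 1 a b : ℤ) : K) := by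
  have h := CfsgLib.Chev.chevE6.toSys.X_map (Int.castRingHom K) r (1 : ℤ)
  rw [map_one] at h
  rw [Alg.xg_val, ← h]
  rfl

theorem keeps_of_mem {d : GL Cfsg.Lie.chevE6.Idx K} (hd : d ∈ dd K) : Keeps d := by
  induction hd using Subgroup.closure_induction with
  | mem g hg =>
    obtain ⟨r, hr, rfl⟩ := hg
    intro j y hy
    rw [xg_entry, X_invariant r hr j y hy, Int.cast_zero]
  | one => exact keeps_one
  | mul x y _ _ hx hy => exact keeps_mul hx hy
  | inv x _ hx =>
    have hp : ∀ n : ℕ, Keeps (x ^ n) := fun n => by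
      induction n with
      | zero => rw [pow_zero]; exact keeps_one
      | succ n ih => rw [pow_succ]; exact keeps_mul ih hx
    have e : x⁻¹ = x ^ (orderOf x - 1) := by
      refine inv_eq_of_mul_eq_one_right ?_
      rw [← pow_succ', Nat.sub_add_cancel (orderOf_pos x), pow_orderOf_eq_one]
    rw [e]
    exact hp _

/-- The representation on the four roots. -/
noncomputable def resHom : ↥(dd K) →* Matrix (Fin 4) (Fin 4) K where
  toFun d := res d.1
  map_one' := res_one
  map_mul' a b := res_mul _ (keeps_of_mem b.2)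

/-- The prime field inside the field. -/
noncomputable def iota (K : Type*) [Field K] [Fintype K] [Fact (Fintype.card K = 4)] :
    Matrix (Fin 4) (Fin 4) (ZMod 2) →+* Matrix (Fin 4) (Fin 4) K :=
  (ZMod.castHom dvd_rfl K).mapMatrix

theorem iota_injective : Function.Injective (iota K) := by
  haveI : Fact (Nat.Prime 2) := ⟨Nat.prime_two⟩
  intro A B e
  ext i j
  exact (ZMod.castHom dvd_rfl K).injective (congrFun (congrFun e i) j)

theorem exists_res (M : GL (Fin 4) (ZMod 2)) : ∃ d : ↥(dd K), resHom d = iota K M := by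
  haveI : Fact (Nat.Prime 2) := ⟨Nat.prime_two⟩
  have htr : ∀ t : Matrix.TransvectionStruct (Fin 4) (ZMod 2), ∃ d : ↥(dd K), resHom d = iota K t.toMatrix := by
    intro t
    rcases eq_or_ne t.c 0 with e | e
    · exact ⟨1, by rw [map_one, Matrix.TransvectionStruct.toMatrix, e, Matrix.transvection_zero, map_one]⟩
    · obtain ⟨r, hr, hrm⟩ := X_transvection t.i t.j t.hij
      refine ⟨⟨_, Subgroup.subset_closure ⟨r, hr, rfl⟩⟩, ?_⟩
      ext k l
      show (CfsgLib.Chev.chevE6.toAlg.xg r (1 : K) : Matrix Cfsg.Lie.chevE6.Idx Cfsg.Lie.chevE6.Idx K)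
        (Sum.inr (oRt k)) (Sum.inr (oRt l)) = ZMod.castHom dvd_rfl K (t.toMatrix k l)
      rw [xg_entry, Matrix.TransvectionStruct.toMatrix, CfsgLib.GL4A8.units_two _ e, ← hrm k l, map_intCast]
  have hlist : ∀ L : List (Matrix.TransvectionStruct (Fin 4) (ZMod 2)),
      ∃ d : ↥(dd K), resHom d = iota K (L.map Matrix.TransvectionStruct.toMatrix).prod := by
    intro L
    induction L with
    | nil => exact ⟨1, by simp⟩
    | cons t L ih =>
      obtain ⟨g, hg⟩ := htr t
      obtain ⟨h, hh⟩ := ih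
      exact ⟨g * h, by rw [List.map_cons, List.prod_cons, map_mul, map_mul, hg, hh]⟩
  obtain ⟨L, L', D, hD⟩ :=
    Matrix.Pivot.exists_list_transvec_mul_diagonal_mul_list_transvec (M : Matrix (Fin 4) (Fin 4) (ZMod 2))
  have hdet : (M : Matrix (Fin 4) (Fin 4) (ZMod 2)).det ≠ 0 := (Matrix.GeneralLinearGroup.det M).ne_zero
  have hD1 : D = fun _ => 1 := by
    rw [hD, Matrix.det_mul, Matrix.det_mul, Matrix.TransvectionStruct.det_toMatrix_prod,
      Matrix.TransvectionStruct.det_toMatrix_prod, one_mul, mul_one, Matrix.det_diagonal] at hdet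
    funext i
    exact CfsgLib.GL4A8.units_two _ fun e => hdet (Finset.prod_eq_zero (Finset.mem_univ i) e)
  obtain ⟨g, hg⟩ := hlist L
  obtain ⟨h, hh⟩ := hlist L'
  exact ⟨g * h, by rw [map_mul, hg, hh, ← map_mul, hD, hD1, Matrix.diagonal_one, mul_one]⟩

theorem card_GL4 : Nat.card (GL (Fin 4) (ZMod 2)) = 20160 := by
  haveI : Fact (Nat.Prime 2) := ⟨Nat.prime_two⟩
  rw [Matrix.card_GL_field]
  simp [Fin.prod_univ_four]

theorem card_dd_ge : 20160 ≤ Nat.card ↥(dd K) := by
  choose d hd using exists_res (K := K)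
  rw [← card_GL4]
  refine Nat.card_le_card_of_injective d fun A B e => Units.ext (iota_injective (K := K) ?_)
  rw [← hd A, ← hd B, e]

theorem x5_not_mem_dd : x5 K ∉ dd K := by
  intro h
  have h1 := dd_commute h (RankOne.u 1)
  rw [x5] at h1
  have h2 : comp (om K) * RankOne.u 1 = RankOne.u 1 * comp (om K) :=
    psi_injective (by rw [map_mul, map_mul]; exact h1.eq)
  have h3 := congrArg (fun Q : SpecialLinearGroup (Fin 2) K => Q.1 0 0) h2
  simp only [RankOne.val_mul] at h3
  simp [comp, RankOne.u, Matrix.mul_apply, Fin.sum_univ_two] at h3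

variable (K) in
/-- The product map. -/
noncomputable def prodMap : ↥(Subgroup.zpowers (x5 K)) × ↥(dd K) →* GL Cfsg.Lie.chevE6.Idx K :=
  (Subgroup.zpowers (x5 K)).subtype.noncommCoprod (dd K).subtype fun a d => by
    obtain ⟨n, hn⟩ := a.2
    show Commute (a : GL Cfsg.Lie.chevE6.Idx K) d
    rw [← hn]
    exact ((dd_commute d.2 (comp (om K))).symm).zpow_left n

theorem prodMap_injective : Function.Injective (prodMap K) := by
  rw [injective_iff_map_eq_one]
  rintro ⟨⟨a, ha⟩, ⟨d, hd⟩⟩ e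
  have e' : a * d = 1 := e
  have ha1 : a = 1 := by
    have had : a ∈ dd K := by
      rw [eq_inv_of_mul_eq_one_left e']; exact inv_mem hd
    by_contra hne
    haveI : Fact (Nat.Prime (Nat.card ↥(Subgroup.zpowers (x5 K)))) :=
      ⟨by rw [Nat.card_zpowers, orderOf_x5]; exact Nat.prime_five⟩
    rcases ((dd K).subgroupOf (Subgroup.zpowers (x5 K))).eq_bot_or_eq_top_of_prime_card with h | h
    · have : (⟨a, ha⟩ : ↥(Subgroup.zpowers (x5 K))) ∈ (dd K).subgroupOf (Subgroup.zpowers (x5 K)) := had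
      rw [h, Subgroup.mem_bot] at this
      exact hne (congrArg Subtype.val this)
    · exact x5_not_mem_dd (Subgroup.subgroupOf_eq_top.mp h (Subgroup.mem_zpowers _))
  subst ha1
  rw [one_mul] at e'
  subst e'
  rfl

theorem prodMap_range_le : (prodMap K).range ≤ cent5 K := by
  rintro _ ⟨⟨⟨a, ha⟩, ⟨d, hd⟩⟩, rfl⟩
  show a * d ∈ cent5 K
  refine mul_mem ?_ ?_
  · obtain ⟨n, rfl⟩ := ha
    refine zpow_mem ?_ n
    exact Subgroup.mem_inf.mpr ⟨x5_mem_fix, Subgroup.mem_centralizer_singleton_iff.mpr rfl⟩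
  · exact Subgroup.mem_inf.mpr ⟨dd_le_fix hd, Subgroup.mem_centralizer_singleton_iff.mpr
      (dd_commute hd (comp (om K))).eq⟩

theorem card_prodMap_range : Nat.card ↥(prodMap K).range = 5 * Nat.card ↥(dd K) := by
  rw [← Nat.card_congr (MonoidHom.ofInjective prodMap_injective).toEquiv, Nat.card_prod, Nat.card_zpowers,
    orderOf_x5]

theorem card_dd : Nat.card ↥(dd K) = 20160 := by
  have h1 := card_dd_ge (K := K)
  have h2 := Subgroup.card_le_of_le (prodMap_range_le (K := K))
  have h3 := card_cent5_le (K := K)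
  rw [card_prodMap_range] at h2
  omega

theorem card_cent5 : Nat.card ↥(cent5 K) = 100800 := by
  have h2 := Subgroup.card_le_of_le (prodMap_range_le (K := K))
  have h3 := card_cent5_le (K := K)
  rw [card_prodMap_range, card_dd] at h2
  omega

theorem prodMap_range : (prodMap K).range = cent5 K :=
  Subgroup.eq_of_le_of_card_ge prodMap_range_le (by rw [card_prodMap_range, card_dd, card_cent5])

theorem dd_equiv : Nonempty (GL (Fin 4) (ZMod 2) ≃* ↥(dd K)) := by
  choose d hd using exists_res (K := K)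
  have hinj : Function.Injective d := fun A B e => Units.ext (iota_injective (K := K) (by rw [← hd A, ← hd B, e]))
  have hbij : Function.Bijective d := (Nat.bijective_iff_injective_and_card d).mpr ⟨hinj, by rw [card_GL4, card_dd]⟩
  have hres : Function.Injective (resHom (K := K)) := by
    intro a b e
    obtain ⟨A, rfl⟩ := hbij.2 a
    obtain ⟨B, rfl⟩ := hbij.2 b
    rw [hd, hd] at e
    rw [Units.ext (iota_injective e)]
  exact ⟨MulEquiv.ofBijective (MonoidHom.mk' d fun A B => hres (by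
    rw [map_mul, hd, hd, hd, Units.val_mul, map_mul])) hbij⟩

/-- The structure of the centralizer. -/
theorem cent5_equiv : Nonempty (↥(cent5 K) ≃* (Multiplicative (ZMod 5) × ↥(alternatingGroup (Fin 8)))) := by
  obtain ⟨e1⟩ := dd_equiv (K := K)
  obtain ⟨e2⟩ := CfsgLib.GL4A8.nonempty_mulEquiv
  haveI : Fact (Nat.Prime 5) := ⟨Nat.prime_five⟩
  let e3 : Multiplicative (ZMod 5) ≃* ↥(Subgroup.zpowers (x5 K)) :=
    mulEquivOfPrimeCardEq (p := 5) (by rw [Nat.card_congr Multiplicative.toAdd, Nat.card_zmod])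
      (by rw [Nat.card_zpowers, orderOf_x5])
  exact ⟨((MulEquiv.subgroupCongr prodMap_range.symm).trans (MonoidHom.ofInjective prodMap_injective).symm).trans
    (MulEquiv.prodCongr e3.symm (e1.symm.trans e2))⟩

theorem card_conjSet : Nat.card ↥(conjSet K) = 630 * Nat.card ↥((hgen (K := K)).Par {ox 3}) :=
  card_conjSet_of_le (card_cent5 (K := K)).ge

end CfsgLib.Chev.T2E6.Five
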