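/-
Fusion of elements of order five by counting fixed points on a coset space.
-/
import Mathlib

namespace CfsgLib.Chev.T2E6.Five

variable {Γ : Type*} [Group Γ]

theorem pow_ne_one_five {y : Γ} (hy : y ≠ 1) (h5 : y ^ 5 = 1) : orderOf y = 5 :=
  haveI : Fact (Nat.Prime 5) := ⟨Nat.prime_five⟩
  orderOf_eq_prime h5 hy

theorem isConj_pow' {a b : Γ} (h : IsConj a b) (k : ℕ) : IsConj (a ^ k) (b ^ k) := by
  obtain ⟨c, hc⟩ := isConj_iff.mp h
  exact isConj_iff.mpr ⟨c, by rw [← hc, conj_pow]⟩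

theorem isConj_orderOf {a b : Γ} (h : IsConj a b) : orderOf b = orderOf a := by
  obtain ⟨c, hc⟩ := isConj_iff.mp h
  rw [← hc, show c * a * c⁻¹ = MulAut.conj c a from rfl]
  exact MulEquiv.orderOf_eq _ _

theorem isConj_pow_five {x y : Γ} (hx : orderOf x = 5) (hsq : IsConj x (x ^ 2)) (hy : IsConj x y) {k : ℕ}
    (hk : ¬ 5 ∣ k) : IsConj x (y ^ k) := by
  have h4 : IsConj x (x ^ 4) := by
    have := isConj_pow' hsq 2
    rw [← pow_mul] at this
    exact hsq.trans this
  have h3 : IsConj x (x ^ 3) := by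
    have := isConj_pow' hsq 4
    rw [← pow_mul, ← pow_mod_orderOf x (2 * 4), hx] at this
    exact h4.trans this
  refine IsConj.trans ?_ (isConj_pow' hy k)
  rw [← pow_mod_orderOf x k, hx]
  rcases (show k % 5 = 1 ∨ k % 5 = 2 ∨ k % 5 = 3 ∨ k % 5 = 4 by omega) with e | e | e | e <;> rw [e]
  · rw [pow_one]
  · exact hsq
  · exact h3
  · exact h4

/-- Elements of order five are conjugate when the square of five does not divide the order. -/
theorem isConj_of_not_dvd {x : Γ} (hx : orderOf x = 5) (hsq : IsConj x (x ^ 2)) (Q : Subgroup Γ) [Finite Q]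
    (hQ : ¬ 25 ∣ Nat.card Q) {a b : Γ} (ha : a ∈ Q) (hb : b ∈ Q) (hoa : IsConj x a) (hob : orderOf b = 5) :
    IsConj x b := by
  haveI : Fact (Nat.Prime 5) := ⟨Nat.prime_five⟩
  have hA : ∀ c : Q, orderOf c = 5 → ∃ S : Sylow 5 Q, (S : Subgroup Q) = Subgroup.zpowers c := by
    intro c hc
    have h1 : IsPGroup 5 (Subgroup.zpowers c) := IsPGroup.of_card (n := 1) (by rw [Nat.card_zpowers, hc, pow_one])
    refine ⟨h1.toSylow ?_, h1.toSylow_coe _⟩
    intro h
    refine hQ ?_
    rw [← Subgroup.card_mul_index (Subgroup.zpowers c), Nat.card_zpowers, hc]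
    exact mul_dvd_mul_left 5 h
  have hoa5 : orderOf a = 5 := (isConj_orderOf hoa).trans hx
  obtain ⟨SA, hSA⟩ := hA ⟨a, ha⟩ (by rw [Subgroup.orderOf_mk, hoa5])
  obtain ⟨SB, hSB⟩ := hA ⟨b, hb⟩ (by rw [Subgroup.orderOf_mk, hob])
  obtain ⟨g, hg⟩ := MulAction.exists_smul_eq Q SA SB
  have hb' : (⟨b, hb⟩ : Q) ∈ ((g • SA : Sylow 5 Q) : Subgroup Q) := by
    rw [hg, hSB]; exact Subgroup.mem_zpowers _
  rw [Sylow.coe_subgroup_smul, hSA] at hb'
  obtain ⟨c, hc, e⟩ := Subgroup.mem_map.mp hb'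
  obtain ⟨k, rfl⟩ := (mem_powers_iff_mem_zpowers.mpr hc)
  have e' : (g : Γ) * a ^ k * (g : Γ)⁻¹ = b := congrArg Subtype.val e
  have hk : ¬ 5 ∣ k := by
    rintro ⟨j, rfl⟩
    rw [pow_mul, ← hoa5, pow_orderOf_eq_one, one_pow, mul_one, mul_inv_cancel] at e'
    rw [← e', orderOf_one] at hob
    omega
  exact (isConj_pow_five hx hsq hoa hk).trans (isConj_iff.mpr ⟨g, e'⟩)

/-- All elements of order five are conjugate. -/
theorem isConj_of_count [Finite Γ] {x z : Γ} (hx : orderOf x = 5) (hsq : IsConj x (x ^ 2)) (Q : Subgroup Γ)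
    (hQ : ∀ y ∈ Q, orderOf y = 5 → IsConj x y)
    (hcount : Nat.card {g : Γ // g⁻¹ * x * g ∈ Q} = 630 * Nat.card Q) (hidx : Q.index % 25 = 5)
    (P : Subgroup Γ) (hP : Nat.card P = 25) (hP5 : ∀ y ∈ P, y ^ 5 = 1) (hxP : x ∈ P) (hzP : z ∈ P)
    (hz : IsConj x z) (hzx : z ∉ Subgroup.zpowers x) (hΓ : ¬ 125 ∣ Nat.card Γ)
    {y : Γ} (hy : orderOf y = 5) : IsConj x y := by
  classical
  haveI : Fact (Nat.Prime 5) := ⟨Nat.prime_five⟩
  haveI : Fintype Γ := Fintype.ofFinite _
  set S : Finset P := Finset.univ.filter fun p => IsConj x p.1 with hS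
  have hfix : ∀ p : P, Nat.card (MulAction.fixedBy (Γ ⧸ Q) p) =
      (if p = 1 then Q.index else 0) + (if p ∈ S then 630 else 0) := by
    intro p
    have hmem : ∀ g : Γ, (QuotientGroup.mk g : Γ ⧸ Q) ∈ MulAction.fixedBy (Γ ⧸ Q) p ↔ g⁻¹ * p.1 * g ∈ Q := by
      intro g
      show (QuotientGroup.mk ((p.1 : Γ) * g) : Γ ⧸ Q) = QuotientGroup.mk g ↔ _
      rw [QuotientGroup.eq, ← Q.inv_mem_iff]
      exact iff_of_eq (congrArg (· ∈ Q) (by group))
    rcases eq_or_ne p 1 with rfl | hp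
    · have h1 : (1 : P) ∉ S := by
        intro h
        have := isConj_orderOf (Finset.mem_filter.mp h).2
        rw [hx, Subgroup.coe_one, orderOf_one] at this
        omega
      rw [if_pos rfl, if_neg h1, add_zero, Subgroup.index]
      exact Nat.card_congr (Equiv.subtypeUnivEquiv fun q => one_smul _ q)
    have hp5 : orderOf p.1 = 5 := pow_ne_one_five (fun e => hp (Subtype.ext e)) (hP5 _ p.2)
    rw [if_neg hp, zero_add]
    by_cases hpS : p ∈ S
    · rw [if_pos hpS]
      obtain ⟨c, hc⟩ := isConj_iff.mp (Finset.mem_filter.mp hpS).2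
      have e1 := Nat.card_congr (QuotientGroup.preimageMkEquivSubgroupProdSet Q (MulAction.fixedBy (Γ ⧸ Q) p))
      rw [Nat.card_prod] at e1
      have e2 : Nat.card ↥(QuotientGroup.mk ⁻¹' MulAction.fixedBy (Γ ⧸ Q) p) = 630 * Nat.card Q := by
        rw [← hcount]
        refine Nat.card_congr (Equiv.subtypeEquiv (Equiv.mulLeft c⁻¹) fun g => ?_)
        rw [Set.mem_preimage, hmem, ← hc, Equiv.coe_mulLeft]
        exact iff_of_eq (congrArg (· ∈ Q) (by group))
      rw [e2, mul_comm 630] at e1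
      exact (Nat.eq_of_mul_eq_mul_left Nat.card_pos e1).symm
    · rw [if_neg hpS, Nat.card_eq_zero]
      refine Or.inl ⟨fun ⟨q, hq⟩ => ?_⟩
      obtain ⟨g, rfl⟩ := QuotientGroup.mk_surjective q
      have h1 : IsConj (g⁻¹ * p.1 * g) p.1 := isConj_iff.mpr ⟨g, by group⟩
      exact hpS (Finset.mem_filter.mpr ⟨Finset.mem_univ _,
        (hQ _ ((hmem g).mp hq) ((isConj_orderOf h1).symm.trans hp5)).trans h1⟩)
  have hsum : 25 ∣ Q.index + 630 * S.card := by
    haveI : Fintype (Γ ⧸ Q) := Fintype.ofFinite _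
    haveI : Fintype (MulAction.orbitRel.Quotient P (Γ ⧸ Q)) := Fintype.ofFinite _
    have h := MulAction.sum_card_fixedBy_eq_card_orbits_mul_card_group P (Γ ⧸ Q)
    rw [← Nat.card_eq_fintype_card (α := P), hP] at h
    have e : ∑ p : P, Fintype.card (MulAction.fixedBy (Γ ⧸ Q) p) = Q.index + 630 * S.card := by
      simp only [← Nat.card_eq_fintype_card, hfix, Finset.sum_add_distrib, Finset.sum_ite_eq',
        Finset.mem_univ, if_true]
      rw [Finset.sum_ite_mem, Finset.univ_inter, Finset.sum_const, smul_eq_mul, mul_comm 630]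
    rw [← e, h]
    exact dvd_mul_left _ _
  have h4 : 4 ∣ S.card := by
    rw [Finset.card_eq_sum_card_image (fun p : P => Subgroup.zpowers p) S]
    refine Finset.dvd_sum fun H hH => ?_
    obtain ⟨s, hs, rfl⟩ := Finset.mem_image.mp hH
    have hsx := (Finset.mem_filter.mp hs).2
    have hs5 : orderOf s = 5 := by rw [← Subgroup.orderOf_coe]; exact (isConj_orderOf hsx).trans hx
    have e : S.filter (fun p => Subgroup.zpowers p = Subgroup.zpowers s) =
        ((Finset.range 5).image (s ^ ·)).erase 1 := by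
      ext p
      simp only [Finset.mem_filter, Finset.mem_erase, Finset.mem_image, Finset.mem_range]
      constructor
      · rintro ⟨hp, e⟩
        refine ⟨?_, ?_⟩
        · rintro rfl
          have := isConj_orderOf (Finset.mem_filter.mp hp).2
          rw [hx, Subgroup.coe_one, orderOf_one] at this
          omega
        · have hps : p ∈ Subgroup.zpowers s := e ▸ Subgroup.mem_zpowers p
          rw [mem_zpowers_iff_mem_range_orderOf, hs5] at hps
          simpa using hps
      · rintro ⟨hp1, k, -, rfl⟩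
        have hk : ¬ 5 ∣ k := by
          rintro ⟨j, rfl⟩
          exact hp1 (by rw [pow_mul, ← hs5, pow_orderOf_eq_one, one_pow])
        refine ⟨Finset.mem_filter.mpr ⟨Finset.mem_univ _, ?_⟩, ?_⟩
        · rw [Subgroup.coe_pow]; exact isConj_pow_five hx hsq hsx hk
        · refine Subgroup.eq_of_le_of_card_ge (Subgroup.zpowers_le.mpr (pow_mem (Subgroup.mem_zpowers s) k)) ?_
          rw [Nat.card_zpowers, Nat.card_zpowers, hs5, pow_ne_one_five hp1
            (by rw [← pow_mul, mul_comm, pow_mul, ← hs5, pow_orderOf_eq_one, one_pow])]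
    have e5 : ((Finset.range 5).image (s ^ ·)).card = 5 := by
      rw [Finset.card_image_of_injOn, Finset.card_range]
      intro i hi j hj e
      exact pow_injOn_Iio_orderOf (by simpa [hs5] using hi) (by simpa [hs5] using hj) e
    rw [e, Finset.card_erase_of_mem (Finset.mem_image.mpr ⟨0, by simp, pow_zero s⟩), e5]
  have h5 : 5 ≤ S.card := by
    have hxS : ∀ k : Fin 4, (⟨x, hxP⟩ : P) ^ (k.val + 1) ∈ S := fun k => by
      refine Finset.mem_filter.mpr ⟨Finset.mem_univ _, ?_⟩
      rw [Subgroup.coe_pow]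
      exact isConj_pow_five hx hsq (IsConj.refl x) (by omega)
    have hzS : (⟨z, hzP⟩ : P) ∈ S := Finset.mem_filter.mpr ⟨Finset.mem_univ _, hz⟩
    have hsub : insert (⟨z, hzP⟩ : P) ((Finset.univ : Finset (Fin 4)).image
        fun k => (⟨x, hxP⟩ : P) ^ (k.val + 1)) ⊆ S := by
      rw [Finset.insert_subset_iff, Finset.image_subset_iff]
      exact ⟨hzS, fun k _ => hxS k⟩
    refine le_trans (le_of_eq ?_) (Finset.card_le_card hsub)
    rw [Finset.card_insert_of_notMem, Finset.card_image_of_injective, Finset.card_univ, Fintype.card_fin]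
    · intro i j e
      have := pow_injOn_Iio_orderOf (x := (⟨x, hxP⟩ : P))
        (show i.val + 1 ∈ Set.Iio _ by rw [Set.mem_Iio, Subgroup.orderOf_mk, hx]; omega)
        (show j.val + 1 ∈ Set.Iio _ by rw [Set.mem_Iio, Subgroup.orderOf_mk, hx]; omega) e
      omega
    · intro h
      obtain ⟨k, -, e⟩ := Finset.mem_image.mp h
      refine hzx ?_
      have e' : x ^ (k.val + 1) = z := congrArg Subtype.val e
      rw [← e']
      exact pow_mem (Subgroup.mem_zpowers x) _
  have hsub : S ⊆ Finset.univ.erase 1 := fun p hp => Finset.mem_erase.mpr ⟨by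
    rintro rfl
    have := isConj_orderOf (Finset.mem_filter.mp hp).2
    rw [hx, Subgroup.coe_one, orderOf_one] at this
    omega, Finset.mem_univ _⟩
  have hc : (Finset.univ.erase (1 : P)).card = 24 := by
    rw [Finset.card_erase_of_mem (Finset.mem_univ _), Finset.card_univ, ← Nat.card_eq_fintype_card, hP]
  have hle := Finset.card_le_card hsub
  have hSeq : S = Finset.univ.erase 1 := Finset.eq_of_subset_of_card_le hsub (by omega)
  -- an arbitrary element moves into the subgroup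
  have hPp : IsPGroup 5 P := IsPGroup.of_card (n := 2) (by rw [hP]; norm_num)
  have hPi : ¬ 5 ∣ P.index := fun h => hΓ (by
    rw [← Subgroup.card_mul_index P, hP]; exact mul_dvd_mul_left 25 h)
  have hY : IsPGroup 5 (Subgroup.zpowers y) := IsPGroup.of_card (n := 1) (by rw [Nat.card_zpowers, hy, pow_one])
  obtain ⟨T, hT⟩ := hY.exists_le_sylow
  obtain ⟨g, hg⟩ := MulAction.exists_smul_eq Γ T (hPp.toSylow hPi)
  have hyP : g * y * g⁻¹ ∈ P := by
    rw [← hPp.toSylow_coe hPi, ← hg, Sylow.coe_subgroup_smul]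
    exact Subgroup.mem_map.mpr ⟨y, hT (Subgroup.mem_zpowers y), rfl⟩
  have h1 : (⟨_, hyP⟩ : P) ≠ 1 := by
    intro e
    have e' : g * y * g⁻¹ = 1 := congrArg Subtype.val e
    have ey : y = 1 := by simpa using e'
    rw [ey, orderOf_one] at hy
    omega
  have h2 : (⟨_, hyP⟩ : P) ∈ S := by rw [hSeq]; exact Finset.mem_erase.mpr ⟨h1, Finset.mem_univ _⟩
  exact (Finset.mem_filter.mp h2).2.trans (isConj_iff.mpr ⟨g⁻¹, by group⟩)

end CfsgLib.Chev.T2E6.Five
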