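/-
All elements of order five of ²E₆(2) are conjugate.
-/
import Cfsg.Agent.Lib.TwE6Five.Centralizer
import Cfsg.Agent.Lib.TwE6Five.FusionGen

namespace CfsgLib.Chev.T2E6.Five

open Cfsg.Lie Chev Matrix

set_option linter.dupNamespace false
set_option linter.unusedSectionVars false
set_option maxRecDepth 100000

variable {K : Type*} [Field K] [Fintype K] [hK : Fact (Fintype.card K = 4)]

/-- The orbits of the parabolic subgroup, indexed as in the symmetry. -/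
abbrev Jm : Set (Fin S.m) := J012

theorem pos_iff_le (r : Rt) : CfsgLib.Chev.chevE6.toTables.Pos r ↔ 36 ≤ r.val := by
  show 72 ≤ 2 * r.val ↔ _
  omega

theorem card_Par012 : Nat.card ↥((hgen (K := K)).Par Jm) = 2 ^ 36 * 3 * 16065 := by
  classical
  haveI : Fintype (S.Wsub Jm) := Fintype.ofFinite _
  have hs : ∑ π : S.Wsub Jm, 2 ^ S.len π.1 = 16065 := @sum_Wsub012 this
  rw [(hgen (K := K)).card_Par hne, card_Bf, ← hs]
  congr 1
  exact Finset.sum_congr rfl fun π _ => card_Uinv2 (S.Wsub_le _ π.2)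

theorem xg_mem_Par012 {s : Rt} (hs : Sub012 s)
    (hf : CfsgLib.Chev.chevE6.toAlg.xg s (1 : K) ∈ (TT K).fix) :
    CfsgLib.Chev.chevE6.toAlg.xg s (1 : K) ∈ (hgen (K := K)).Par Jm := by
  have key : ∀ r : Rt, CfsgLib.Chev.chevE6.toTables.Pos r →
      CfsgLib.Chev.chevE6.toAlg.xg r (1 : K) ∈ (TT K).fix →
      CfsgLib.Chev.chevE6.toAlg.xg r (1 : K) ∈ (hgen (K := K)).Par Jm := fun r hr hrf => by
    refine (hgen (K := K)).Bf_le_Par _ (Subgroup.mem_inf.mpr ⟨Subgroup.mem_sup_left ?_, hrf⟩)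
    rw [CfsgLib.Chev.chevE6.posUnipotent_eq_US]
    exact CfsgLib.Chev.chevE6.xg_mem_US (F := K) hr 1
  by_cases hp : CfsgLib.Chev.chevE6.toTables.Pos s
  · exact key s hp hf
  obtain ⟨m, hm⟩ := exists_repOne (K := K) (wordPerm_mem_W1 wordNeg)
  have hmP := (hgen (K := K)).rep_mem_Par
    (wordPerm_mem_Wsub (J := Jm) wordNeg fun a ha => wordNeg_mem a ha) hm.1
  have h1 : CfsgLib.Chev.chevE6.toAlg.xg (wordPerm wordNeg s) (1 : K) ∈ (hgen (K := K)).Par Jm := by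
    refine key _ ((pos_iff_le _).mpr ?_) ?_
    · rw [wordPerm_val]; exact wordNeg_pos s hs hp
    · rw [← hm.2]; exact mul_mem (mul_mem hm.1.fx hf) (Subgroup.inv_mem _ hm.1.fx)
  rw [← hm.2] at h1
  simpa [mul_assoc] using mul_mem (mul_mem (Subgroup.inv_mem _ hmP) h1) hmP

theorem exists_conj_dd :
    ∃ n ∈ (TT K).fix, ∀ d ∈ dd K, n * d * n⁻¹ ∈ (hgen (K := K)).Par Jm := by
  obtain ⟨n, hn⟩ := exists_repOne (K := K) (wordPerm_mem_W1 wordOrth)
  refine ⟨n, hn.1.fx, fun d hd => ?_⟩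
  have key : dd K ≤ ((hgen (K := K)).Par Jm).comap (MulAut.conj n).toMonoidHom := by
    rw [dd, Subgroup.closure_le]
    rintro _ ⟨r, hr, rfl⟩
    show n * CfsgLib.Chev.chevE6.toAlg.xg r (1 : K) * n⁻¹ ∈ (hgen (K := K)).Par Jm
    have hrf : CfsgLib.Chev.chevE6.toAlg.xg r (1 : K) ∈ (TT K).fix :=
      dd_le_fix (Subgroup.subset_closure ⟨r, hr, rfl⟩)
    have hcf := mul_mem (mul_mem hn.1.fx hrf) (Subgroup.inv_mem _ hn.1.fx)
    rw [hn.2] at hcf ⊢
    exact xg_mem_Par012 (wordOrth_sub r hr _ (wordPerm_val _ _)) hcf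
  exact key hd

theorem exists_conj_x5_Par012 :
    ∃ n ∈ (TT K).fix, n * x5 K * n⁻¹ ∈ (hgen (K := K)).Par Jm := by
  obtain ⟨n, hn⟩ := (hgen (K := K)).exists_rep (wordPerm_mem_W1 wordPair)
  refine ⟨n, hn.fx, ?_⟩
  have h1 : n * x5 K * n⁻¹ ∈ Tw.Lev (TT K) (ox 2) := by
    refine hn.conj_Lev (fun r hr => (PJ2_iff _).mpr ?_) x5_mem_Lev
    rcases (PJ3_iff r).mp hr with e | e <;> rw [wordPerm_val, e]
    · exact pair_vals.1
    · exact pair_vals.2
  have hle : (hgen (K := K)).Par {ox 2} ≤ (hgen (K := K)).Par Jm := by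
    refine sup_le ((hgen (K := K)).Bf_le_Par _) ((Subgroup.closure_le _).mpr ?_)
    rintro _ ⟨a, rfl, rfl⟩
    exact (hgen (K := K)).sn_mem_Par (show (ox 2 : Fin 4).val < 3 by decide)
  exact hle ((hgen (K := K)).Lev_le_Par _ h1)

variable (K) in
/-- The element of order five inside the group. -/
noncomputable def xf : ↥((TT K).fix) := ⟨x5 K, x5_mem_fix⟩

theorem orderOf_xf : orderOf (xf K) = 5 := by rw [xf, Subgroup.orderOf_mk, orderOf_x5]

theorem xf_sq : IsConj (xf K) (xf K ^ 2) := by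
  obtain ⟨g, hg, e⟩ := exists_conj_sq (K := K)
  refine isConj_iff.mpr ⟨⟨g, hg⟩⁻¹, Subtype.ext ?_⟩
  show g⁻¹ * x5 K * g⁻¹⁻¹ = x5 K ^ 2
  rw [inv_inv, e]

theorem isConj_Par3 {y : ↥((TT K).fix)} (hy : y.1 ∈ (hgen (K := K)).Par {ox 3}) (ho : orderOf y = 5) :
    IsConj (xf K) y := by
  refine isConj_of_not_dvd orderOf_xf xf_sq (((hgen (K := K)).Par {ox 3}).subgroupOf (TT K).fix) ?_
    (a := xf K) ((hgen (K := K)).Lev_le_Par _ x5_mem_Lev) hy (IsConj.refl _) ho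
  rw [Nat.card_congr (Subgroup.subgroupOfEquivOfLe ((hgen (K := K)).Par_le_fix _)).toEquiv, card_Par3]
  norm_num

theorem exists_z : ∃ z : ↥(dd K), orderOf z = 5 := by
  haveI : Fact (Nat.Prime 5) := ⟨Nat.prime_five⟩
  exact exists_prime_orderOf_dvd_card' 5 (by rw [card_dd]; norm_num)

theorem isConj_dd (z : ↥(dd K)) (hz : orderOf z = 5) :
    IsConj (xf K) ⟨z.1, dd_le_fix z.2⟩ := by
  obtain ⟨n, hn, hnd⟩ := exists_conj_dd (K := K)
  obtain ⟨m, hm, hmx⟩ := exists_conj_x5_Par012 (K := K)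
  set zf : ↥((TT K).fix) := ⟨z.1, dd_le_fix z.2⟩ with hzf
  have hz5 : orderOf zf = 5 := by rw [hzf, Subgroup.orderOf_mk, Subgroup.orderOf_coe, hz]
  set n' : ↥((TT K).fix) := ⟨n, hn⟩
  set m' : ↥((TT K).fix) := ⟨m, hm⟩
  have h1 : IsConj (xf K) (m' * xf K * m'⁻¹) := isConj_iff.mpr ⟨m', rfl⟩
  have h2 : IsConj zf (n' * zf * n'⁻¹) := isConj_iff.mpr ⟨n', rfl⟩
  refine (isConj_of_not_dvd orderOf_xf xf_sq (((hgen (K := K)).Par Jm).subgroupOf (TT K).fix) ?_
    (a := m' * xf K * m'⁻¹) (b := n' * zf * n'⁻¹) hmx (hnd _ z.2) h1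
      ((isConj_orderOf h2).trans hz5)).trans h2.symm
  rw [Nat.card_congr (Subgroup.subgroupOfEquivOfLe ((hgen (K := K)).Par_le_fix _)).toEquiv, card_Par012]
  norm_num

theorem card_fix : Nat.card ↥((TT K).fix) = 2 ^ 36 * 33 * 63 * 255 * 513 * 4095 := by
  have h := card_G Nat.prime_two.isPrimePow (card_sq (K := K))
  have e : Nat.card ↥(twistedE6 K 2) = Nat.card ↥((TT K).fix) := by rw [← GG_eq]
  norm_num [e] at h ⊢
  omega

/-- All elements of order five are conjugate. -/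
theorem isConj_xf {y : ↥((TT K).fix)} (hy : orderOf y = 5) : IsConj (xf K) y := by
  obtain ⟨z, hz⟩ := exists_z (K := K)
  set f : ↥(Subgroup.zpowers (x5 K)) × ↥(Subgroup.zpowers z) →* GL Cfsg.Lie.chevE6.Idx K :=
    (prodMap K).comp ((MonoidHom.id _).prodMap (Subgroup.zpowers z).subtype) with hf
  have hfi : Function.Injective f := by
    intro a b e
    have := prodMap_injective e
    simp only [MonoidHom.coe_prodMap, Prod.map, Prod.mk.injEq] at this
    exact Prod.ext this.1 (Subtype.ext this.2)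
  have hfix : f.range ≤ (TT K).fix := by
    rintro _ ⟨p, rfl⟩
    exact (prodMap_range_le (K := K) ⟨_, rfl⟩).1
  have hcard : Nat.card ↥f.range = 25 := by
    rw [← Nat.card_congr (MonoidHom.ofInjective hfi).toEquiv, Nat.card_prod, Nat.card_zpowers, Nat.card_zpowers,
      orderOf_x5, hz]
  have h5 : ∀ g ∈ f.range, g ^ 5 = 1 := by
    rintro _ ⟨⟨a, b⟩, rfl⟩
    rw [← map_pow]
    have ha : a ^ 5 = 1 := by
      refine orderOf_dvd_iff_pow_eq_one.mp ((orderOf_dvd_natCard a).trans ?_)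
      rw [Nat.card_zpowers, orderOf_x5]
    have hb : b ^ 5 = 1 := by
      refine orderOf_dvd_iff_pow_eq_one.mp ((orderOf_dvd_natCard b).trans ?_)
      rw [Nat.card_zpowers, hz]
    rw [Prod.pow_mk, ha, hb]
    exact map_one f
  refine isConj_of_count (Q := ((hgen (K := K)).Par {ox 3}).subgroupOf (TT K).fix)
    (z := (⟨z.1, dd_le_fix z.2⟩ : ↥((TT K).fix))) orderOf_xf xf_sq (fun w hw ho => isConj_Par3 hw ho) ?_ ?_
    (f.range.subgroupOf (TT K).fix) ?_ ?_ ?_ ?_ (isConj_dd z hz) ?_ ?_ hy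
  · rw [Nat.card_congr (Subgroup.subgroupOfEquivOfLe ((hgen (K := K)).Par_le_fix _)).toEquiv, ← card_conjSet]
    exact Nat.card_congr
      { toFun := fun g => ⟨g.1.1, g.1.2, g.2⟩
        invFun := fun g => ⟨⟨g.1, g.2.1⟩, g.2.2⟩
        left_inv := fun g => rfl
        right_inv := fun g => rfl }
  · have h := Subgroup.card_mul_index (((hgen (K := K)).Par {ox 3}).subgroupOf (TT K).fix)
    rw [Nat.card_congr (Subgroup.subgroupOfEquivOfLe ((hgen (K := K)).Par_le_fix _)).toEquiv, card_Par3,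
      card_fix] at h
    norm_num at h
    omega
  · rw [Nat.card_congr (Subgroup.subgroupOfEquivOfLe hfix).toEquiv, hcard]
  · intro w hw
    exact Subtype.ext (by simpa using h5 _ hw)
  · exact ⟨(⟨x5 K, Subgroup.mem_zpowers _⟩, 1), by simp [hf, prodMap, xf]⟩
  · exact ⟨(1, ⟨z, Subgroup.mem_zpowers _⟩), by simp [hf, prodMap]⟩
  · intro h
    obtain ⟨k, hk⟩ := h
    have hk' : x5 K ^ k = z.1 := congrArg Subtype.val hk
    have e := prodMap_injective (K := K) (a₁ := (⟨x5 K ^ k, k, rfl⟩, 1)) (a₂ := (1, z)) (by simp [prodMap, hk'])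
    have e2 : (1 : ↥(dd K)) = z := congrArg Prod.snd e
    rw [← e2, orderOf_one] at hz
    omega
  · rw [card_fix]; norm_num

end CfsgLib.Chev.T2E6.Five
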